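import Mathlib
import Groth.Prelude.Def_KoszulSh

/-! The exterior Koszul complex of a weakly regular family is acyclic in positive degrees. -/

set_option autoImplicit false

universe u v

noncomputable section

namespace Groth.KoszShLib

open ExteriorAlgebra

variable {R : Type u} [CommRing R] {M : Type v} [AddCommGroup M] [Module R M]

local notation "ΛM" => ExteriorAlgebra R M

/-- contraction with a linear form -/
def dd (φ : M →ₗ[R] R) : ΛM →ₗ[R] ΛM := CliffordAlgebra.contractLeft (Q := (0 : QuadraticForm R M)) φ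

theorem dd_ι_mul (φ : M →ₗ[R] R) (m : M) (x : ΛM) : dd φ (ι R m * x) = φ m • x - ι R m * dd φ x :=
  CliffordAlgebra.contractLeft_ι_mul φ m x

theorem dd_dd (φ : M →ₗ[R] R) (x : ΛM) : dd φ (dd φ x) = 0 :=
  CliffordAlgebra.contractLeft_contractLeft φ x

theorem dd_algebraMap (φ : M →ₗ[R] R) (r : R) : dd φ (algebraMap R ΛM r) = 0 :=
  CliffordAlgebra.contractLeft_algebraMap _ φ r

theorem dd_one (φ : M →ₗ[R] R) : dd φ (1 : ΛM) = 0 := CliffordAlgebra.contractLeft_one _ φ

theorem dd_ι (φ : M →ₗ[R] R) (m : M) : dd φ (ι R m) = algebraMap R ΛM (φ m) :=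
  CliffordAlgebra.contractLeft_ι _ φ m

theorem dd_ιMulti (φ : M →ₗ[R] R) : ∀ (p : ℕ) (e : Fin (p + 1) → M),
    dd φ (ExteriorAlgebra.ιMulti R (p + 1) e) =
      ∑ i : Fin (p + 1), ((-1 : R) ^ (i : ℕ) * φ (e i)) •
        ExteriorAlgebra.ιMulti R p (fun j => e (i.succAbove j)) := by
  intro p
  induction p with
  | zero =>
    intro e
    simp [ExteriorAlgebra.ιMulti_succ_apply, ExteriorAlgebra.ιMulti_zero_apply, dd_ι,
      Algebra.algebraMap_eq_smul_one]
  | succ p ih =>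
    intro e
    rw [ExteriorAlgebra.ιMulti_succ_apply, dd_ι_mul, ih, Finset.mul_sum, Fin.sum_univ_succ (n := p + 1), sub_eq_add_neg]
    congr 1
    · simp [Fin.succAbove_zero, Matrix.vecTail, Function.comp_def]
    · rw [← Finset.sum_neg_distrib]
      refine Finset.sum_congr rfl fun i _ => ?_
      rw [mul_smul_comm, ← neg_smul]
      have h : ExteriorAlgebra.ιMulti R (p + 1) (fun j => e (i.succ.succAbove j)) =
          ι R (e 0) * ExteriorAlgebra.ιMulti R p (fun j => Matrix.vecTail e (i.succAbove j)) := by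
        rw [ExteriorAlgebra.ιMulti_succ_apply]
        congr 2
        funext l
        simp [Matrix.vecTail, Fin.succ_succAbove_succ]
      rw [h]
      congr 1
      simp [Matrix.vecTail, pow_succ]

theorem dd_coe (φ : M →ₗ[R] R) (p : ℕ) (e : Fin (p + 1) → M) :
    dd φ (exteriorPower.ιMulti R (p + 1) e : ΛM) = (KoszSh.dGen φ p e : ΛM) := by
  rw [exteriorPower.ιMulti_apply_coe, dd_ιMulti, KoszSh.dGen, AddSubmonoidClass.coe_finsetSum]
  simp only [Submodule.coe_smul, exteriorPower.ιMulti_apply_coe]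

section Regular

variable {n : ℕ} (b : Fin n → M) (φ : M →ₗ[R] R)

/-- span of the first `j` vectors -/
def Vj (j : ℕ) : Submodule R ΛM := Submodule.span R ((fun i => ι R (b i)) '' {i | (i : ℕ) < j})

theorem dd_mem {W : Submodule R ΛM} (hW : ∀ v ∈ W, ∃ m, v = ι R m) :
    ∀ (q : ℕ) (x : ΛM), x ∈ W ^ (q + 1) → dd φ x ∈ W ^ q := by
  intro q
  induction q with
  | zero =>
    intro x hx
    rw [zero_add, pow_one] at hx
    obtain ⟨m, rfl⟩ := hW x hx
    rw [dd_ι, pow_zero]
    exact Submodule.mem_one.2 ⟨_, rfl⟩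
  | succ q ih =>
    intro x hx
    rw [pow_succ' W (q + 1)] at hx
    refine Submodule.mul_induction_on hx (fun v hv y hy => ?_) fun a b ha hb => ?_
    · obtain ⟨m, rfl⟩ := hW v hv
      rw [dd_ι_mul]
      refine sub_mem (Submodule.smul_mem _ _ hy) ?_
      rw [pow_succ' W q]
      exact Submodule.mul_mem_mul hv (ih _ hy)
    · rw [map_add]; exact add_mem ha hb

theorem Vj_ι (j : ℕ) : ∀ v ∈ Vj b j, ∃ m, v = ι R m := by
  have h : Vj b j ≤ LinearMap.range (ι R (M := M)) :=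
    Submodule.span_le.2 (by rintro _ ⟨i, -, rfl⟩; exact ⟨_, rfl⟩)
  exact fun v hv => (h hv).elim fun m hm => ⟨m, hm.symm⟩

theorem dd_eq_zero_of (δ : M →ₗ[R] R) (j : ℕ) (hδ : ∀ i : Fin n, (i : ℕ) < j → δ (b i) = 0) :
    ∀ (q : ℕ) (x : ΛM), x ∈ Vj b j ^ q → dd δ x = 0 := by
  intro q
  induction q with
  | zero =>
    intro x hx
    rw [pow_zero] at hx
    obtain ⟨r, rfl⟩ := Submodule.mem_one.1 hx
    exact dd_algebraMap δ r
  | succ q ih =>
    intro x hx
    rw [pow_succ'] at hx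
    refine Submodule.mul_induction_on hx (fun v hv y hy => ?_) fun a b ha hb => ?_
    · induction hv using Submodule.span_induction with
      | mem w hw =>
        obtain ⟨i, hi, rfl⟩ := hw
        rw [dd_ι_mul, hδ i hi, ih y hy, zero_smul, mul_zero, sub_zero]
      | zero => rw [zero_mul, map_zero]
      | add u w _ _ hu hw => rw [add_mul, map_add, hu, hw, add_zero]
      | smul c u _ hu => rw [smul_mul_assoc, map_smul, hu, smul_zero]
    · rw [map_add, ha, hb, add_zero]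

theorem split_pow (j : Fin n) : ∀ (q : ℕ) (x : ΛM), x ∈ Vj b ((j : ℕ) + 1) ^ (q + 1) →
    ∃ a ∈ Vj b j ^ (q + 1), ∃ c ∈ Vj b j ^ q, x = a + ι R (b j) * c := by
  have hV : Vj b ((j : ℕ) + 1) ≤ Vj b j ⊔ Submodule.span R {ι R (b j)} := by
    refine Submodule.span_le.2 ?_
    rintro _ ⟨i, hi, rfl⟩
    rcases Nat.lt_succ_iff_lt_or_eq.1 hi with h | h
    · exact Submodule.mem_sup_left (Submodule.subset_span ⟨i, h, rfl⟩)
    · rw [show i = j from Fin.ext h]
      exact Submodule.mem_sup_right (Submodule.mem_span_singleton_self _)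
  have hsplit : ∀ v ∈ Vj b ((j : ℕ) + 1), ∃ w ∈ Vj b j, ∃ r : R, v = w + r • ι R (b j) := by
    intro v hv
    obtain ⟨w, hw, z, hz, rfl⟩ := Submodule.mem_sup.1 (hV hv)
    obtain ⟨r, rfl⟩ := Submodule.mem_span_singleton.1 hz
    exact ⟨w, hw, r, rfl⟩
  intro q
  induction q with
  | zero =>
    intro x hx
    rw [zero_add, pow_one] at hx
    obtain ⟨w, hw, r, rfl⟩ := hsplit x hx
    refine ⟨w, by rwa [zero_add, pow_one], algebraMap R ΛM r, ?_, ?_⟩
    · rw [pow_zero]; exact Submodule.mem_one.2 ⟨r, rfl⟩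
    · rw [← Algebra.commutes, ← Algebra.smul_def]
  | succ q ih =>
    intro x hx
    rw [pow_succ' (Vj b ((j : ℕ) + 1)) (q + 1)] at hx
    refine Submodule.mul_induction_on hx (fun v hv y hy => ?_) ?_
    · obtain ⟨w, hw, r, rfl⟩ := hsplit v hv
      obtain ⟨a, ha, c, hc, rfl⟩ := ih y hy
      obtain ⟨m, rfl⟩ := Vj_ι b j w hw
      refine ⟨ι R m * a, by rw [pow_succ' _ (q + 1)]; exact Submodule.mul_mem_mul hw ha,
        r • a - ι R m * c, ?_, ?_⟩
      · exact sub_mem (Submodule.smul_mem _ _ ha) (by rw [pow_succ']; exact Submodule.mul_mem_mul hw hc)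
      · have hsw : ι R m * ι R (b j) = -(ι R (b j) * ι R m) :=
          eq_neg_of_add_eq_zero_left (ExteriorAlgebra.ι_add_mul_swap m (b j))
        rw [add_mul, mul_add, mul_add, ← mul_assoc (ι R m) (ι R (b j)), hsw, smul_mul_assoc, smul_mul_assoc,
          ← mul_assoc (ι R (b j)) (ι R (b j)), ExteriorAlgebra.ι_sq_zero, zero_mul, smul_zero, add_zero,
          mul_sub, mul_smul_comm, neg_mul, mul_assoc]
        abel
    · rintro u w ⟨a, ha, c, hc, rfl⟩ ⟨a', ha', c', hc', rfl⟩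
      exact ⟨a + a', add_mem ha ha', c + c', add_mem hc hc', by rw [mul_add]; abel⟩

theorem mem_span_of_mem_ideal (j : ℕ) (r : R) (hr : r ∈ Ideal.span ((fun i => φ (b i)) '' {i | (i : ℕ) < j})) :
    ∃ c ∈ Vj b j, dd φ c = algebraMap R ΛM r := by
  induction hr using Submodule.span_induction with
  | mem x hx =>
    obtain ⟨i, hi, rfl⟩ := hx
    exact ⟨ι R (b i), Submodule.subset_span ⟨i, hi, rfl⟩, dd_ι φ _⟩
  | zero => exact ⟨0, zero_mem _, by simp⟩
  | add x y _ _ hx hy =>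
    obtain ⟨c, hc, h1⟩ := hx
    obtain ⟨c', hc', h2⟩ := hy
    exact ⟨c + c', add_mem hc hc', by rw [map_add, map_add, h1, h2]⟩
  | smul a x _ hx =>
    obtain ⟨c, hc, h1⟩ := hx
    exact ⟨a • c, Submodule.smul_mem _ _ hc, by rw [map_smul, h1, smul_eq_mul, map_mul, Algebra.smul_def]⟩

theorem algebraMap_dd_mem (j : ℕ) (a : ΛM) (ha : a ∈ Vj b j) (r : R) (h : dd φ a = algebraMap R ΛM r) :
    r ∈ Ideal.span ((fun i => φ (b i)) '' {i | (i : ℕ) < j}) := by
  have key : ∀ a ∈ Vj b j, ∃ r ∈ Ideal.span ((fun i => φ (b i)) '' {i | (i : ℕ) < j}),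
      dd φ a = algebraMap R ΛM r := by
    intro a ha
    induction ha using Submodule.span_induction with
    | mem x hx =>
      obtain ⟨i, hi, rfl⟩ := hx
      exact ⟨_, Ideal.subset_span ⟨i, hi, rfl⟩, dd_ι φ _⟩
    | zero => exact ⟨0, zero_mem _, by simp⟩
    | add x y _ _ hx hy =>
      obtain ⟨c, hc, h1⟩ := hx
      obtain ⟨c', hc', h2⟩ := hy
      exact ⟨c + c', add_mem hc hc', by rw [map_add, map_add, h1, h2]⟩
    | smul a x _ hx =>
      obtain ⟨c, hc, h1⟩ := hx
      exact ⟨a * c, Ideal.mul_mem_left _ _ hc, by rw [map_smul, h1, map_mul, Algebra.smul_def]⟩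
  obtain ⟨r', hr', h'⟩ := key a ha
  rwa [show r = r' from (ExteriorAlgebra.algebraMap_inj M r r').1 (h.symm.trans h')]

/-- Acyclicity of the Koszul complex of a weakly regular family. -/
theorem exists_dd_eq (δ : Fin n → (M →ₗ[R] R)) (hδ : ∀ i k, δ i (b k) = if k = i then 1 else 0)
    (hreg : RingTheory.Sequence.IsWeaklyRegular R (List.ofFn fun k => φ (b k))) :
    ∀ (j : ℕ), j ≤ n → ∀ (q : ℕ) (z : ΛM), z ∈ Vj b j ^ (q + 1) → dd φ z = 0 →
      ∃ y ∈ Vj b j ^ (q + 2), dd φ y = z := by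
  have hr : ∀ (j : Fin n) (r : R), φ (b j) * r ∈ Ideal.span ((fun i => φ (b i)) '' {i | (i : ℕ) < j}) →
      r ∈ Ideal.span ((fun i => φ (b i)) '' {i | (i : ℕ) < j}) := by
    intro j r h
    have e : Ideal.ofList ((List.ofFn fun k => φ (b k)).take j) =
        Ideal.span ((fun i => φ (b i)) '' {i | (i : ℕ) < j}) := by
      unfold Ideal.ofList
      congr 1
      ext x
      simp only [Set.mem_image, List.mem_take_iff_getElem, List.getElem_ofFn, List.length_ofFn, Set.mem_ofPred_eq]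
      constructor
      · rintro ⟨i, hi, rfl⟩; exact ⟨⟨i, (lt_min_iff.1 hi).2⟩, (lt_min_iff.1 hi).1, rfl⟩
      · rintro ⟨i, hi, rfl⟩; exact ⟨i, lt_min hi i.2, rfl⟩
    have h1 := hreg.regular_mod_prev j (by simp)
    rw [List.getElem_ofFn] at h1
    rw [smul_eq_mul, Ideal.mul_top, e] at h1
    have h2 : φ (b j) • (Submodule.Quotient.mk r : R ⧸ Ideal.span ((fun i => φ (b i)) '' {i | (i : ℕ) < j})) =
        φ (b j) • 0 := by
      rw [smul_zero, ← Submodule.Quotient.mk_smul, Submodule.Quotient.mk_eq_zero, smul_eq_mul]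
      exact h
    exact (Submodule.Quotient.mk_eq_zero _).1 (h1 h2)
  intro j
  induction j with
  | zero =>
    intro _ q z hz _
    have h0 : (Vj b 0 : Submodule R ΛM) = ⊥ := by simp [Vj]
    rw [h0, pow_succ', Submodule.bot_mul, Submodule.mem_bot] at hz
    exact ⟨0, zero_mem _, by rw [hz, map_zero]⟩
  | succ j ih =>
    intro hj q z hz hdz
    have hmono : (Vj b j : Submodule R ΛM) ≤ Vj b (j + 1) :=
      Submodule.span_mono (Set.image_mono fun i (hi : (i : ℕ) < j) => Nat.lt_succ_of_lt hi)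
    have hpm : ∀ q : ℕ, (Vj b j : Submodule R ΛM) ^ q ≤ Vj b (j + 1) ^ q := fun q => pow_le_pow_left' hmono q
    set i : Fin n := ⟨j, hj⟩ with hi
    obtain ⟨a, ha, c, hc, rfl⟩ := split_pow b i q z hz
    rw [map_add, dd_ι_mul] at hdz
    have hδ0 : ∀ k : Fin n, (k : ℕ) < j → δ i (b k) = 0 := fun k hk => by
      rw [hδ, if_neg]; intro h; rw [h] at hk; exact lt_irrefl _ hk
    have hsmall : ∀ (q' : ℕ) x, x ∈ Vj b j ^ q' → dd (δ i) x = 0 := dd_eq_zero_of b (δ i) j hδ0
    have hdc : ι R (b i) * dd φ c = dd φ a + φ (b i) • c :=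
      (sub_eq_zero.1 (by rw [← hdz]; abel)).symm
    have hda_mem : dd φ a ∈ Vj b j ^ q := dd_mem φ (Vj_ι b j) q a ha
    have hdc0 : dd φ c = 0 := by
      rcases q with _ | q
      · rw [pow_zero] at hc
        obtain ⟨r, rfl⟩ := Submodule.mem_one.1 hc
        exact dd_algebraMap φ r
      · have h1 := congrArg (dd (δ i)) hdc
        rw [dd_ι_mul, hsmall q _ (dd_mem φ (Vj_ι b j) q c hc), map_add, hsmall _ _ hda_mem, map_smul,
          hsmall _ _ hc, mul_zero, sub_zero, smul_zero, add_zero] at h1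
        rwa [show δ i (b i) = 1 by rw [hδ, if_pos rfl], one_smul] at h1
    rw [hdc0, mul_zero] at hdc
    obtain ⟨c', hc', hdc'⟩ : ∃ c' ∈ Vj b j ^ (q + 1), dd φ c' = c := by
      rcases q with _ | q
      · rw [pow_zero] at hc
        obtain ⟨r, rfl⟩ := Submodule.mem_one.1 hc
        obtain ⟨c', hc', h⟩ := mem_span_of_mem_ideal b φ j r (hr i r
          (algebraMap_dd_mem b φ j (-a) (neg_mem (by simpa using ha)) _ (by
            rw [map_neg, map_mul, ← Algebra.smul_def, eq_comm, ← sub_eq_zero, sub_neg_eq_add, add_comm]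
            exact hdc.symm)))
        exact ⟨c', by rwa [zero_add, pow_one], h⟩
      · exact ih (by omega) q c hc hdc0
    obtain ⟨y, hy, hdy⟩ := ih (by omega) q (a + φ (b i) • c') (add_mem ha (Submodule.smul_mem _ _ hc'))
      (by rw [map_add, map_smul, hdc', hdc])
    refine ⟨y - ι R (b i) * c', sub_mem (hpm _ hy) ?_, ?_⟩
    · rw [pow_succ']
      exact Submodule.mul_mem_mul (Submodule.subset_span ⟨i, Nat.lt_succ_self j, rfl⟩) (hpm _ hc')
    · rw [map_sub, dd_ι_mul, hdy, hdc']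
      abel

theorem dd_exact (B : Module.Basis (Fin n) R M)
    (hreg : RingTheory.Sequence.IsWeaklyRegular R (List.ofFn fun k => φ (B k))) (q : ℕ)
    (z : ↥(⋀[R]^(q + 1) M)) (hz : dd φ (z : ΛM) = 0) :
    ∃ y : ↥(⋀[R]^(q + 2) M), dd φ (y : ΛM) = (z : ΛM) := by
  classical
  have hV : Vj (fun k => B k) n = LinearMap.range (ι R (M := M)) := by
    refine le_antisymm (Submodule.span_le.2 (by rintro _ ⟨i, -, rfl⟩; exact ⟨_, rfl⟩)) ?_
    rintro _ ⟨m, rfl⟩
    rw [← B.sum_repr m, map_sum]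
    refine Submodule.sum_mem _ fun i _ => ?_
    rw [map_smul]
    exact Submodule.smul_mem _ _ (Submodule.subset_span ⟨i, i.2, rfl⟩)
  obtain ⟨y, hy, hdy⟩ := exists_dd_eq (fun k => B k) φ (fun i => B.coord i)
    (fun i k => by simp [Finsupp.single_apply]) hreg n le_rfl q (z : ΛM) (by rw [hV]; exact z.2) hz
  rw [hV] at hy
  exact ⟨⟨y, hy⟩, hdy⟩

end Regular

end Groth.KoszShLib
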