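import Mathlib
import Groth.Prelude.Def_KoszulSh
import Groth.Agent.KoszShLib.Algebra
import Groth.Agent.LocFree.ExtPow
import Groth.Agent.LocFree.Affine
import Groth.Agent.LocFree.AffineHom
import Groth.Agent.KTheory.ExtFiltSheaf
import Groth.Agent.OmegaSheaf.ExactLocal

/-! Koszul complexes of cosections on sections over affine opens. -/

set_option autoImplicit false

universe u

open CategoryTheory CategoryTheory.Limits AlgebraicGeometry TopologicalSpace

noncomputable section

namespace Groth.KoszShLib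

open Groth.PicAux Groth.LocFree
open Groth.QCohMod (appₗ)

variable {X : Scheme.{u}} {E : X.Modules} {s : E ⟶ Coh.structureModule X} (C : KoszSh.Cx E s)

theorem loc_d (p : ℕ) (U : X.affineOpens) (x : Γ(C.K.X (p + 1), U.1)) :
    (C.loc p U ((C.K.d (p + 1) p).app U.1 x) : ExteriorAlgebra Γ(X, U.1) Γ(E, U.1)) =
      dd (KoszSh.secForm s U.1) (C.loc (p + 1) U x : ExteriorAlgebra Γ(X, U.1) Γ(E, U.1)) := by
  obtain ⟨a, rfl⟩ := (C.loc (p + 1) U).symm.surjective x
  rw [LinearEquiv.apply_symm_apply]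
  induction a using esec_induction with
  | wedge e => rw [C.rule, LinearEquiv.apply_symm_apply]; exact (dd_coe _ p e).symm
  | zero => simp
  | add a b ha hb => simp only [map_add, Submodule.coe_add, ha, hb]
  | smul r a ha =>
    rw [map_smul, Scheme.Modules.Hom.app_smul, map_smul, Submodule.coe_smul, Submodule.coe_smul, map_smul, ha]

/-- The positive degree homology of the Koszul complex of a regular cosection vanishes. -/
theorem isZero_homology (n : ℕ) (hqc : E.IsQuasicoherent)
    (hs : ∀ x : X, ∃ U : X.affineOpens, x ∈ U.1 ∧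
      ∃ b : Module.Basis (Fin n) Γ(X, U.1) Γ(E, U.1),
        RingTheory.Sequence.IsWeaklyRegular Γ(X, U.1) (List.ofFn fun k => KoszSh.secForm s U.1 (b k)))
    (q : ℕ) (hq : 1 ≤ q) : IsZero (C.K.homology q) := by
  obtain ⟨q, rfl⟩ := Nat.exists_eq_add_of_le hq
  rw [← HomologicalComplex.exactAt_iff_isZero_homology, add_comm 1 q,
    C.K.exactAt_iff' (q + 2) (q + 1) q (by simp) (by simp)]
  haveI : (C.K.sc' (q + 2) (q + 1) q).X₂.IsQuasicoherent :=
    isQCoh_of_isExtPow (KoszSh.Cx.isExtPow C (q + 1))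
  haveI : (C.K.sc' (q + 2) (q + 1) q).X₃.IsQuasicoherent := isQCoh_of_isExtPow (KoszSh.Cx.isExtPow C q)
  refine Groth.OmegaSheaf.exact_of_affine_cover _ fun x => ?_
  obtain ⟨U, hxU, b, hb⟩ := hs x
  refine ⟨U.1, U.2, hxU, fun m hm => ?_⟩
  have h0 : dd (KoszSh.secForm s U.1) (C.loc (q + 1) U m : ExteriorAlgebra Γ(X, U.1) Γ(E, U.1)) = 0 := by
    rw [← loc_d C q U m]
    have hm' : (C.K.d (q + 1) q).app U.1 m = (0 : Γ(C.K.X q, U.1)) := hm
    erw [hm']
    rw [map_zero, Submodule.coe_zero]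
  obtain ⟨y, hy⟩ := dd_exact (KoszSh.secForm s U.1) b hb q (C.loc (q + 1) U m) h0
  refine ⟨(C.loc (q + 2) U).symm y, (C.loc (q + 1) U).injective (Subtype.ext ?_)⟩
  refine (loc_d C (q + 1) U _).trans ?_
  rw [LinearEquiv.apply_symm_apply]
  exact hy

variable {F : X.Modules} {t : F ⟶ Coh.structureModule X}

/-- Functoriality of Koszul complexes. -/
theorem existsUnique_chainMap (f : E ⟶ F) (hf : f ≫ t = s) (D : KoszSh.Cx F t) :
    ∃! φ : C.K ⟶ D.K, ∀ (p : ℕ) (U : X.affineOpens) (e : Fin p → Γ(E, U.1)),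
      (φ.f p).app U.1 ((C.loc p U).symm (exteriorPower.ιMulti _ p e)) =
        (D.loc p U).symm (exteriorPower.ιMulti _ p (fun j => f.app U.1 (e j))) := by
  have hst : ∀ (U : X.Opens) (e : Γ(E, U)), KoszSh.secForm t U (f.app U e) = KoszSh.secForm s U e := by
    intro U e
    subst hf
    rfl
  let g : ∀ (p : ℕ) (U : X.affineOpens), Γ(C.K.X p, U.1) →ₗ[Γ(X, U.1)] Γ(D.K.X p, U.1) := fun p U =>
    (D.loc p U).symm.toLinearMap ∘ₗ exteriorPower.map p (appₗ f U.1) ∘ₗ (C.loc p U).toLinearMap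
  have hg : ∀ p U (e : Fin p → Γ(E, U.1)), g p U ((C.loc p U).symm (exteriorPower.ιMulti _ p e)) =
      (D.loc p U).symm (exteriorPower.ιMulti _ p (fun j => f.app U.1 (e j))) := fun p U e => by
    simp only [g, LinearMap.comp_apply, LinearEquiv.coe_coe, LinearEquiv.apply_symm_apply,
      exteriorPower.map_apply_ιMulti]
    rfl
  have hex : ∀ p, ∃ φ : C.K.X p ⟶ D.K.X p, ∀ U (hU : IsAffineOpen U) x, φ.app U x = g p ⟨U, hU⟩ x := by
    intro p
    refine exists_hom_of_affine (fun U hU => g p ⟨U, hU⟩) fun U V hU hV h x => ?_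
    obtain ⟨a, rfl⟩ := (C.loc p ⟨U, hU⟩).symm.surjective x
    induction a using esec_induction with
    | wedge e =>
      rw [hg, show res (C.K.X p) h ((C.loc p ⟨U, hU⟩).symm (exteriorPower.ιMulti _ p e)) = _ from
        C.loc_res p ⟨U, hU⟩ ⟨V, hV⟩ h e, hg]
      refine (D.loc_res p ⟨U, hU⟩ ⟨V, hV⟩ h _).trans ?_
      congr 2
      funext j
      exact (app_res f h (e j)).symm
    | zero => simp only [map_zero, res_zero]
    | add a b ha hb => simp only [map_add, res_add, ha, hb]
    | smul r a ha => simp only [map_smul, res_smul, ha]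
  choose φ hφ using hex
  have hcomm : ∀ p, φ (p + 1) ≫ D.K.d (p + 1) p = C.K.d (p + 1) p ≫ φ p := by
    intro p
    refine Groth.KTheory.ExtFilt.hom_ext_affine fun U' hU' => ?_
    obtain ⟨U, rfl⟩ : ∃ U : X.affineOpens, U.1 = U' := ⟨⟨U', hU'⟩, rfl⟩
    intro x
    show (D.K.d (p + 1) p).app U.1 ((φ (p + 1)).app U.1 x) = (φ p).app U.1 ((C.K.d (p + 1) p).app U.1 x)
    obtain ⟨a, rfl⟩ := (C.loc (p + 1) U).symm.surjective x
    induction a using esec_induction with
    | wedge e =>
      rw [hφ _ U.1 U.2, hg, D.rule, C.rule, hφ _ U.1 U.2]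
      simp only [KoszSh.dGen, map_sum, map_smul, hg, hst]
    | zero => simp only [map_zero]
    | add a b ha hb => simp only [map_add, ha, hb]
    | smul r a ha => simp only [map_smul, Scheme.Modules.Hom.app_smul, ha]
  refine ⟨HomologicalComplex.Hom.mk φ (fun i j hij => ?_), fun p U e => ?_, fun ψ hψ => ?_⟩
  · obtain rfl : j + 1 = i := hij
    exact hcomm j
  · exact (hφ p U.1 U.2 _).trans (hg p U e)
  · refine HomologicalComplex.hom_ext _ _ fun p => Groth.KTheory.ExtFilt.hom_ext_affine fun U hU x => ?_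
    obtain ⟨a, rfl⟩ := (C.loc p ⟨U, hU⟩).symm.surjective x
    show _ = (φ p).app U _
    induction a using esec_induction with
    | wedge e => rw [hφ _ U hU, hg]; exact hψ p ⟨U, hU⟩ e
    | zero => simp only [map_zero]
    | add a b ha hb => simp only [map_add, ha, hb]
    | smul r a ha => simp only [map_smul, Scheme.Modules.Hom.app_smul, ha]

end Groth.KoszShLib
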