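import Mathlib
import Groth.Prelude.Def_KoszulSh
import Groth.Agent.KoszShLib.Sheaf
import Groth.Agent.LocCohTransform.DepthIneq
import Groth.Agent.Ega4Algebra2.RegularImmersion
import Groth.Agent.LocCohBase.DepthLocal
import Groth.Agent.LocCohBase.CM
import Groth.Agent.PicAux.FreeBasis
import Groth.Agent.S5761
import Groth.Agent.S14424

/-! Local complete intersections in Cohen–Macaulay schemes and their free Koszul resolutions. -/

set_option autoImplicit false

universe u

open CategoryTheory CategoryTheory.Limits AlgebraicGeometry TopologicalSpace RingTheory.Sequence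

noncomputable section

namespace Groth.KoszShLib

open Groth.PicAux Groth.LocFree

theorem isCohenMacaulayRing_of_local (R : Type u) [CommRing R] (h : LocCoh.IsCohenMacaulayLocalRing R) :
    LocCoh.IsCohenMacaulayRing R := by
  haveI := h
  refine { isCohenMacaulayLocalRing_localization := fun p _ => { supportDim_eq_depth := ?_ } }
  have h1 : LocCoh.IsCohenMacaulayModule (Localization.AtPrime p) (LocalizedModule p.primeCompl R) :=
    Groth.Agent.S5761.result R R h.supportDim_eq_depth ⟨p, inferInstance⟩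
      (Module.mem_support_iff.2 (inferInstance : Nontrivial (LocalizedModule p.primeCompl R)))
  let e := (IsLocalizedModule.iso p.primeCompl (Algebra.linearMap R (Localization.AtPrime p))
    ).extendScalarsOfIsLocalization p.primeCompl (Localization.AtPrime p)
  unfold LocCoh.IsCohenMacaulayModule at h1
  rw [Module.supportDim_eq_of_equiv e] at h1
  rw [h1]
  -- done

theorem isWeaklyRegular_of_height (R : Type u) [CommRing R] (h : LocCoh.IsCohenMacaulayLocalRing R)
    (xs : List R) (hne : Ideal.ofList xs ≠ ⊤) (hht : (xs.length : ℕ∞) ≤ (Ideal.ofList xs).height) :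
    IsWeaklyRegular R xs := by
  haveI := h
  refine Groth.LocCohTransform.isWeaklyRegular_of_length_le_idealDepth xs R
    (fun x hx => IsLocalRing.le_maximalIdeal hne (Ideal.subset_span hx)) ?_
  rw [(Groth.Agent.S14424.result R).1 (isCohenMacaulayRing_of_local R h) _ hne]
  exact hht

theorem exists_regular_nhd {X Y : Scheme.{u}}
    [IsLocallyNoetherian X] (hCM : ∀ x : X, LocCoh.IsCohenMacaulayLocalRing (X.presheaf.stalk x))
    (i : Y ⟶ X) [IsClosedImmersion i] (c : ℕ)
    (hgen : ∀ y : Y, ∃ U : X.affineOpens, i.base y ∈ U.1 ∧ ∃ g : Fin c → Γ(X, U.1), i.ker.ideal U = Ideal.span (Set.range g))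
    (hht : ∀ y : Y, (c : ℕ∞) ≤ (RingHom.ker (i.stalkMap y).hom).height) (y : Y) :
    ∃ U : X.affineOpens, i.base y ∈ U.1 ∧ ∃ f : Fin c → Γ(X, U.1),
      i.ker.ideal U = Ideal.span (Set.range f) ∧ IsWeaklyRegular Γ(X, U.1) (List.ofFn f) := by
  obtain ⟨⟨U, hU⟩, hzU, g, hg⟩ := hgen y
  haveI : IsNoetherianRing Γ(X, U) := IsLocallyNoetherian.component_noetherian ⟨U, hU⟩
  have hzU' : i y ∈ U := hzU
  letI := TopCat.Presheaf.algebra_section_stalk X.presheaf (⟨i y, hzU'⟩ : U)
  haveI : IsLocalization.AtPrime (X.presheaf.stalk (i y)) (hU.primeIdealOf ⟨i y, hzU'⟩).asIdeal :=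
    hU.isLocalization_stalk ⟨i y, hzU'⟩
  set p := (hU.primeIdealOf ⟨i y, hzU'⟩).asIdeal
  set rs : List Γ(X, U) := List.ofFn g with hrs
  have hker : RingHom.ker (i.stalkMap y).hom =
      Ideal.ofList (rs.map (algebraMap Γ(X, U) (X.presheaf.stalk (i y)))) := by
    rw [Groth.Ega4b.ker_stalkMap_eq_map i hU y hzU', hg, ← Ideal.map_ofList]
    congr 1
    simp [Ideal.ofList, rs, Set.range]
  have hne : Ideal.ofList (rs.map (algebraMap Γ(X, U) (X.presheaf.stalk (i y)))) ≠ ⊤ := by
    rw [← hker]; exact RingHom.ker_ne_top _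
  have hreg := isWeaklyRegular_of_height _ (hCM (i y)) _ hne (by
    rw [← hker, List.length_map, hrs, List.length_ofFn]; exact hht y)
  let e := IsLocalization.algEquiv p.primeCompl (X.presheaf.stalk (i y)) (Localization.AtPrime p)
  have hregp : IsWeaklyRegular (Localization.AtPrime p) (rs.map (algebraMap Γ(X, U) (Localization.AtPrime p))) := by
    rw [isWeaklyRegular_map_algebraMap_iff] at hreg ⊢
    exact (e.toLinearEquiv.isWeaklyRegular_congr rs).mp hreg
  obtain ⟨t, ht, htreg⟩ := Groth.FrobLCI.RegularSpread.exists_away p rs hregp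
  have hzV : i y ∈ X.basicOpen t := by
    have h1 : hU.fromSpec (hU.primeIdealOf ⟨i y, hzU'⟩) ∈ X.basicOpen t := by
      show hU.primeIdealOf ⟨i y, hzU'⟩ ∈ hU.fromSpec ⁻¹ᵁ X.basicOpen t
      rw [hU.fromSpec_preimage_basicOpen]; exact ht
    rwa [hU.fromSpec_primeIdealOf] at h1
  let res' := (X.presheaf.map (homOfLE (X.basicOpen_le t)).op).hom
  letI : Algebra Γ(X, U) Γ(X, X.basicOpen t) := res'.toAlgebra
  haveI : IsLocalization.Away t Γ(X, X.basicOpen t) := hU.isLocalization_basicOpen t
  refine ⟨⟨X.basicOpen t, hU.basicOpen t⟩, hzV, fun k => res' (g k), ?_, ?_⟩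
  · show i.ker.ideal ⟨X.basicOpen t, hU.basicOpen t⟩ = _
    refine ((i.ker.map_ideal_basicOpen ⟨U, hU⟩ t).symm).trans ?_
    rw [hg, Ideal.map_span, ← Set.range_comp]
    rfl
  · have h1 := htreg t (dvd_refl t)
    have h2 : List.ofFn (fun k => res' (g k)) = rs.map (algebraMap Γ(X, U) Γ(X, X.basicOpen t)) := by
      rw [hrs, List.map_ofFn]; rfl
    show IsWeaklyRegular Γ(X, X.basicOpen t) (List.ofFn fun k => res' (g k))
    rw [h2]
    rw [isWeaklyRegular_map_algebraMap_iff] at h1 ⊢
    exact ((IsLocalization.algEquiv (Submonoid.powers t) (Localization.Away t) Γ(X, X.basicOpen t)).toLinearEquiv.isWeaklyRegular_congr rs).mp h1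

theorem exists_free_split (X : Scheme.{u}) (n : ℕ) :
    ∃ d : Split' n (FlatMod.freeMod X n),
      ∀ k, d.s k = Sigma.ι (fun _ : Fin n => Coh.structureModule X) k := by
  have := HasBiproductsOfShape.mk (C := X.Modules) (J := Fin n)
  let F : Fin n → X.Modules := fun _ => Coh.structureModule X
  have hb : HasBiproduct F := HasBiproduct.of_hasCoproduct F
  let e := biproduct.isoCoproduct F
  refine ⟨⟨fun i => biproduct.ι F i ≫ e.hom, fun i => e.inv ≫ biproduct.π F i,
    fun i => ?_, fun i j h => ?_, ?_⟩, fun k => ?_⟩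
  · simp
    rfl
  · simp [biproduct.ι_π_ne _ h]
  · simp only [Category.assoc]
    rw [← Preadditive.comp_sum]
    simp_rw [← Category.assoc (biproduct.π F _) (biproduct.ι F _)]
    rw [← Preadditive.sum_comp, biproduct.total, Category.id_comp, Iso.inv_hom_id]
  · simp [e, F]

theorem isZero_homology_free {X : Scheme.{u}} [IsAffine X] {c : ℕ} (f : Fin c → Γ(X, ⊤))
    (hf : IsWeaklyRegular Γ(X, ⊤) (List.ofFn f)) (s : FlatMod.freeMod X c ⟶ Coh.structureModule X)
    (hs : ∀ k : Fin c, KoszSh.secForm s ⊤ ((Sigma.ι (fun _ : Fin c => Coh.structureModule X) k).app ⊤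
        (OmegaSh.strSect X ⊤ 1)) = f k)
    (C : KoszSh.Cx (FlatMod.freeMod X c) s) (q : ℕ) (hq : 1 ≤ q) : IsZero (C.K.homology q) := by
  obtain ⟨d, hd⟩ := exists_free_split X c
  refine isZero_homology C c (Groth.KTheory.LocFree.isQCoh (isFinLocFree_freeMod X c))
    (fun x => ⟨⟨⊤, isAffineOpen_top X⟩, trivial, ?_⟩) q hq
  have hb := d.basis ⊤ le_rfl
  simp only [res_self] at hb
  let v : Fin c → Γ(FlatMod.freeMod X c, ⊤) := fun k => (d.s k).app ⊤ (oneSec X ⊤)
  let L : (Fin c → Γ(X, ⊤)) →ₗ[Γ(X, ⊤)] Γ(FlatMod.freeMod X c, ⊤) := Fintype.linearCombination Γ(X, ⊤) v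
  have hL : Function.Bijective L := by
    convert hb using 1
    funext r
    rfl
  refine ⟨(Pi.basisFun Γ(X, ⊤) (Fin c)).map (LinearEquiv.ofBijective L hL), ?_⟩
  convert hf using 3
  rename_i k
  rw [← hs k]
  congr 1
  rw [Module.Basis.map_apply, LinearEquiv.ofBijective_apply, Pi.basisFun_apply]
  simp [L, Fintype.linearCombination_apply_single, v, hd]
  rfl

end Groth.KoszShLib
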