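import Mathlib
import Groth.Prelude.Def_KoszTw
import Groth.Agent.KoszShLib.Sheaf
import Groth.Agent.LocFree.Tensor
import Groth.Agent.PicAux.TensorLift

/-! Twisted Koszul complexes on sections. -/

set_option autoImplicit false
set_option backward.isDefEq.respectTransparency false

universe u

open CategoryTheory CategoryTheory.Limits AlgebraicGeometry TopologicalSpace TensorProduct Opposite

noncomputable section

namespace Groth.KoszShLib

open Groth.PicAux Groth.LocFree
open Groth.QCohMod (appₗ)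

variable {X : Scheme.{u}}

theorem hom_eq_zero_of_small {M N : X.Modules} (h : M ⟶ N)
    (hh : ∀ (x : X) (W : X.Opens), x ∈ W → ∃ V : X.Opens, x ∈ V ∧ V ≤ W ∧ ∀ m : Γ(M, V), h.app V m = 0) :
    h = 0 := by
  ext W m
  choose V hxV hVW hV using fun x : W => hh x.1 W x.2
  refine res_ext V hVW (fun z hz => Opens.mem_iSup.2 ⟨⟨z, hz⟩, hxV _⟩) fun x => ?_
  rw [← app_res, hV x]
  exact (res_zero _).symm

theorem comp_app_apply {A B N : X.Modules} (f : A ⟶ B) (g : B ⟶ N) (V : X.Opens) (m : Γ(A, V)) :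
    (f ≫ g).app V m = g.app V (f.app V m) := rfl

theorem id_app_apply {A : X.Modules} (V : X.Opens) (m : Γ(A, V)) : (𝟙 A : A ⟶ A).app V m = m := rfl

/-- tensoring with a generator -/
theorem tmul_bijective {M L : X.Modules} [M.IsQuasicoherent] [L.IsQuasicoherent] {V : X.Opens}
    (hV : IsAffineOpen V) (l : Γ(L, V)) (hl : Function.Bijective fun r : Γ(X, V) => r • l) :
    Function.Bijective fun m : Γ(M, V) => (tmulSec m l : Γ(CohB1.tensorMod M L, V)) := by
  let e : Γ(X, V) ≃ₗ[Γ(X, V)] Γ(L, V) := LinearEquiv.ofBijective (LinearMap.toSpanSingleton _ _ l) hl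
  let g := ((TensorProduct.rid Γ(X, V) Γ(M, V)).symm.trans
    (TensorProduct.congr (LinearEquiv.refl _ _) e)).trans (tensorSecEquiv (M := M) (N := L) hV)
  convert g.bijective using 1
  funext m
  simp [g, e]

theorem gen_bijective {L : X.Modules} {U V : X.Opens} {l : Γ(L, U)} (hl : Gen L U l) (h : V ≤ U) :
    Function.Bijective fun r : Γ(X, V) => r • res L h l := hl V h

theorem isQCoh_tensorPow (L : X.Modules) [L.IsQuasicoherent] :
    ∀ q : ℕ, (CohB1.tensorPow L q).IsQuasicoherent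
  | 0 => Groth.KTheory.LocFree.isQCoh (isFinLocFree_unit X)
  | q + 1 => by
    haveI := isQCoh_tensorPow L q
    exact Groth.QCohMod.isQCoh_tensorMod

theorem tprod_bijective {L : X.Modules} [L.IsQuasicoherent] {V : X.Opens} (hV : IsAffineOpen V) (l : Γ(L, V))
    (hl : Function.Bijective fun r : Γ(X, V) => r • l) :
    ∀ q : ℕ, Function.Bijective fun r : Γ(X, V) => r • KoszTw.tprod L q V (fun _ => l) := by
  intro q
  induction q with
  | zero =>
    have h := gen_bijective (gen_oneSec (X := X) V) le_rfl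
    rw [res_self] at h
    exact h
  | succ q ih =>
    haveI := isQCoh_tensorPow L q
    show Function.Bijective fun r : Γ(X, V) =>
      r • (tmulSec (KoszTw.tprod L q V fun _ => l) l : Γ(CohB1.tensorMod (CohB1.tensorPow L q) L, V))
    have h := (tmul_bijective (M := CohB1.tensorPow L q) hV l hl).comp ih
    simp only [Function.comp_def, tmulSec_smul_left] at h
    exact h

variable {F L : X.Modules} {s : F ⟶ Coh.structureModule X} {lam : Coh.structureModule X ⟶ L}
  {t : CohB1.tensorMod F L ⟶ Coh.structureModule X} {C : KoszSh.Cx F s}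
  {D : KoszSh.Cx (CohB1.tensorMod F L) t}

/-- tensoring with a section -/
def tw (V : X.Opens) (l : Γ(L, V)) : Γ(F, V) →ₗ[Γ(X, V)] Γ(CohB1.tensorMod F L, V) where
  toFun m := tmulSec m l
  map_add' a b := by
    rw [← tmulLin_apply, map_add]; rfl
  map_smul' r a := tmulSec_smul_left r a l

theorem tw_apply (V : X.Opens) (l : Γ(L, V)) (m : Γ(F, V)) : tw V l m = tmulSec m l := rfl

theorem map_tw_bijective [F.IsQuasicoherent] [L.IsQuasicoherent] (V : X.affineOpens) (l : Γ(L, V.1))
    (hl : Function.Bijective fun r : Γ(X, V.1) => r • l) (p : ℕ) :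
    Function.Bijective (exteriorPower.map p (tw (F := F) V.1 l)) := by
  let e := LinearEquiv.ofBijective (tw (F := F) V.1 l) (tmul_bijective V.2 l hl)
  refine Function.bijective_iff_has_inverse.2 ⟨exteriorPower.map p e.symm.toLinearMap, fun x => ?_, fun x => ?_⟩
  · rw [← LinearMap.comp_apply, ← exteriorPower.map_comp,
      show e.symm.toLinearMap ∘ₗ tw V.1 l = LinearMap.id from LinearMap.ext e.symm_apply_apply,
      exteriorPower.map_id, LinearMap.id_apply]
  · rw [← LinearMap.comp_apply, ← exteriorPower.map_comp,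
      show tw V.1 l ∘ₗ e.symm.toLinearMap = LinearMap.id from LinearMap.ext e.apply_symm_apply,
      exteriorPower.map_id, LinearMap.id_apply]

theorem theta_formula (q : ℕ) (θ : KoszTw.CxDecData C D q) (V : X.affineOpens) (l : Γ(L, V.1))
    (ω : ESec q F V.1) :
    θ.iso.hom.app V.1 ((D.loc q V).symm (exteriorPower.map q (tw V.1 l) ω)) =
      tmulSec ((C.loc q V).symm ω) (KoszTw.tprod L q V.1 (fun _ => l)) := by
  induction ω using esec_induction with
  | wedge e =>
    rw [exteriorPower.map_apply_ιMulti]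
    exact θ.rule V e (fun _ => l)
  | zero => simp only [map_zero]; exact (tmulSec_zero_left _).symm
  | add a b ha hb => simp only [map_add, ha, hb, ← tmulLin_apply, LinearMap.add_apply]
  | smul r a ha => simp only [map_smul, Scheme.Modules.Hom.app_smul, ha, tmulSec_smul_left]

theorem d_formula (htri : KoszTw.TwistTriangle s lam t) (p : ℕ) (V : X.affineOpens) (l : Γ(L, V.1))
    (hl : Function.Bijective fun r : Γ(X, V.1) => r • l) (a : Γ(X, V.1))
    (ha : lam.app V.1 (oneSec X V.1) = a • l) (ω : ESec (p + 1) F V.1) :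
    ∃ ω' : ESec p F V.1,
      (D.K.d (p + 1) p).app V.1 ((D.loc (p + 1) V).symm (exteriorPower.map (p + 1) (tw V.1 l) ω)) =
        (D.loc p V).symm (exteriorPower.map p (tw V.1 l) ω') ∧
      (C.K.d (p + 1) p).app V.1 ((C.loc (p + 1) V).symm ω) = (C.loc p V).symm (a • ω') := by
  have hst : ∀ f : Γ(F, V.1), KoszSh.secForm s V.1 f = KoszSh.secForm t V.1 (tw V.1 l f) * a := fun f => by
    apply hl.1
    change KoszSh.secForm s V.1 f • l = (KoszSh.secForm t V.1 (tw V.1 l f) * a) • l
    rw [← htri V.1 f l, mul_smul, ← ha, ← Scheme.Modules.Hom.app_smul]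
    congr 1
    exact eq_toFun_smul_oneSec _
  induction ω using esec_induction with
  | wedge e =>
    refine ⟨KoszSh.dGen (KoszSh.secForm t V.1 ∘ₗ tw V.1 l) p e, ?_, ?_⟩
    · rw [exteriorPower.map_apply_ιMulti, D.rule]
      simp only [KoszSh.dGen, map_sum, map_smul, exteriorPower.map_apply_ιMulti, LinearMap.comp_apply]
      rfl
    · rw [C.rule]
      simp only [KoszSh.dGen, Finset.smul_sum, smul_smul, LinearMap.comp_apply, hst]
      congr 1
      exact Finset.sum_congr rfl fun i _ => by ring_nf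
  | zero => exact ⟨0, by simp only [map_zero], by simp only [map_zero, smul_zero]⟩
  | add x y hx hy =>
    obtain ⟨x', h1, h2⟩ := hx
    obtain ⟨y', h3, h4⟩ := hy
    exact ⟨x' + y', by simp only [map_add, h1, h3], by simp only [map_add, smul_add, h2, h4]⟩
  | smul r x hx =>
    obtain ⟨x', h1, h2⟩ := hx
    exact ⟨r • x', by simp only [map_smul, Scheme.Modules.Hom.app_smul, h1],
      by simp only [map_smul, Scheme.Modules.Hom.app_smul, h2, smul_comm r a]⟩

theorem exists_small (hL : PicF.IsInvertible L) (x : X) (W : X.Opens) (hxW : x ∈ W) :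
    ∃ (V : X.affineOpens) (l : Γ(L, V.1)) (a : Γ(X, V.1)), x ∈ V.1 ∧ V.1 ≤ W ∧
      (Function.Bijective fun r : Γ(X, V.1) => r • l) ∧ lam.app V.1 (oneSec X V.1) = a • l := by
  obtain ⟨U, l, hxU, hl⟩ := (isInvertible_iff_exists_gen L).1 hL x
  obtain ⟨_, ⟨V, hV, rfl⟩, hxV, hVW⟩ :=
    X.isBasis_affineOpens.exists_subset_of_mem_open (show x ∈ W ⊓ U from ⟨hxW, hxU⟩) (W ⊓ U).2
  have hVU : V ≤ U := fun z hz => (hVW hz).2
  obtain ⟨a, ha⟩ := (hl V hVU).2 (lam.app V (oneSec X V))
  exact ⟨⟨V, hV⟩, res L hVU l, a, hxV, fun z hz => (hVW hz).1, hl V hVU, ha.symm⟩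

theorem smul_eq_zero_of_projective {R M : Type*} [CommRing R] [AddCommGroup M] [Module R M] [Module.Projective R M]
    {a : R} (ha : ∀ r, r * a = 0 → r = 0) {z : M} (h : a • z = 0) : z = 0 := by
  obtain ⟨i, hi⟩ := Module.projective_def.1 (inferInstance : Module.Projective R M)
  have h1 : i z = 0 := Finsupp.ext fun m => ha _ (by
    have := DFunLike.congr_fun (congrArg i h) m
    rw [map_smul, map_zero, Finsupp.smul_apply, smul_eq_mul, mul_comm] at this
    exact this)
  rw [← hi z, h1, map_zero]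

theorem kernel_eq (hF : FlatMod.IsFinLocFree F) (hL : PicF.IsInvertible L) [Mono lam]
    (htri : KoszTw.TwistTriangle s lam t) (q : ℕ) (θ : KoszTw.CxDecData C D (q + 1)) :
    kernelSubobject (θ.iso.hom ≫ KoszTw.tensorMap (C.K.d (q + 1) q) (𝟙 (CohB1.tensorPow L (q + 1)))) =
      kernelSubobject (D.K.d (q + 1) q) := by
  haveI := Groth.KTheory.LocFree.isQCoh hF
  haveI := Groth.KTheory.LocFree.isQCoh (isFinLocFree_of_rank (isInvertible_iff_ofRank_one.1 hL))
  haveI := isQCoh_tensorPow L (q + 1)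
  haveI : (C.K.X q).IsQuasicoherent := isQCoh_of_isExtPow (KoszSh.Cx.isExtPow C q)
  have hfree := isFinLocFree_of_isExtPow hF (KoszSh.Cx.isExtPow C q)
  have key : ∀ (x : X) (W : X.Opens), x ∈ W → ∃ V : X.Opens, x ∈ V ∧ V ≤ W ∧ ∀ m : Γ(D.K.X (q + 1), V),
      ((θ.iso.hom ≫ KoszTw.tensorMap (C.K.d (q + 1) q) (𝟙 (CohB1.tensorPow L (q + 1)))).app V m = 0 ↔
        (D.K.d (q + 1) q).app V m = 0) := by
    intro x W hxW
    obtain ⟨V, l, a, hxV, hVW, hl, ha⟩ := exists_small (lam := lam) hL x W hxW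
    refine ⟨V.1, hxV, hVW, fun m => ?_⟩
    obtain ⟨ω, hω⟩ := (map_tw_bijective (F := F) V l hl (q + 1)).2 (D.loc (q + 1) V m)
    obtain rfl : m = (D.loc (q + 1) V).symm (exteriorPower.map (q + 1) (tw V.1 l) ω) := by
      rw [hω, LinearEquiv.symm_apply_apply]
    obtain ⟨ω', h1, h2⟩ := d_formula (C := C) (D := D) htri q V l hl a ha ω
    rw [h1, LinearEquiv.map_eq_zero_iff, map_eq_zero_iff _ (map_tw_bijective (F := F) V l hl q).1]
    have hf : (θ.iso.hom ≫ KoszTw.tensorMap (C.K.d (q + 1) q) (𝟙 (CohB1.tensorPow L (q + 1)))).app V.1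
        ((D.loc (q + 1) V).symm (exteriorPower.map (q + 1) (tw V.1 l) ω)) =
        tmulSec ((C.loc q V).symm (a • ω')) (KoszTw.tprod L (q + 1) V.1 (fun _ => l)) := by
      rw [comp_app_apply, theta_formula, tensorMap_app_tmulSec, h2, id_app_apply]
    rw [hf]
    constructor
    · intro h
      have h3 : (C.loc q V).symm (a • ω') = 0 :=
        (tmul_bijective V.2 _ (tprod_bijective V.2 l hl (q + 1))).1 (h.trans (tmulSec_zero_left _).symm)
      rw [map_smul] at h3
      haveI := projective_sections hfree V.2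
      refine (LinearEquiv.map_eq_zero_iff _).1 (smul_eq_zero_of_projective (fun r hr => ?_) h3)
      have h4 : lam.app V.1 (r • oneSec X V.1) = lam.app V.1 0 := by
        rw [Scheme.Modules.Hom.app_smul, ha, smul_smul, hr, zero_smul, map_zero]
      have h5 := gen_bijective (gen_oneSec (X := X) V.1) le_rfl
      rw [res_self] at h5
      exact h5.1 ((Groth.QCohMod.app_injective_of_mono lam V.1 h4).trans (zero_smul _ _).symm)
    · intro h
      rw [h, smul_zero, map_zero, tmulSec_zero_left]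
  refine le_antisymm (Subobject.mk_le_mk_of_comm (kernel.lift _ (kernel.ι _) ?_) (kernel.lift_ι _ _ _))
    (Subobject.mk_le_mk_of_comm (kernel.lift _ (kernel.ι _) ?_) (kernel.lift_ι _ _ _)) <;>
    refine hom_eq_zero_of_small _ fun x W hxW => ?_
  · obtain ⟨V, hxV, hVW, hV⟩ := key x W hxW
    refine ⟨V, hxV, hVW, fun m => (hV _).1 ?_⟩
    exact congr(($(kernel.condition (θ.iso.hom ≫ KoszTw.tensorMap (C.K.d (q + 1) q) (𝟙 _)))).app V m)
  · obtain ⟨V, hxV, hVW, hV⟩ := key x W hxW
    refine ⟨V, hxV, hVW, fun m => (hV _).2 ?_⟩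
    exact congr(($(kernel.condition (D.K.d (q + 1) q))).app V m)

theorem imageSubobject_le_of_sections {A B N : X.Modules} (f : A ⟶ N) (g : B ⟶ N)
    (h : ∀ (x : X) (W : X.Opens), x ∈ W → ∃ V : X.Opens, x ∈ V ∧ V ≤ W ∧
      ∀ m : Γ(A, V), ∃ n : Γ(B, V), g.app V n = f.app V m) :
    imageSubobject f ≤ imageSubobject g := by
  have hz : f ≫ cokernel.π g = 0 := by
    refine hom_eq_zero_of_small _ fun x W hxW => ?_
    obtain ⟨V, hxV, hVW, hV⟩ := h x W hxW
    refine ⟨V, hxV, hVW, fun m => ?_⟩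
    obtain ⟨n, hn⟩ := hV m
    show (cokernel.π g).app V (f.app V m) = 0
    rw [← hn]
    exact congr(($(cokernel.condition g)).app V n)
  refine imageSubobject_le f
    (kernel.lift (cokernel.π g) f hz ≫ (Abelian.imageIsoImage g).hom ≫ (imageSubobjectIso g).inv) ?_
  simp only [Category.assoc, imageSubobject_arrow']
  rw [Abelian.imageIsoImage_hom_comp_image_ι]
  exact kernel.lift_ι _ _ _

theorem image_eq (hF : FlatMod.IsFinLocFree F) (hL : PicF.IsInvertible L)
    (htri : KoszTw.TwistTriangle s lam t) (q : ℕ) (θ : KoszTw.CxDecData C D q) :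
    imageSubobject (KoszTw.tensorMap (KoszTw.tensorMap (C.K.d (q + 1) q) (𝟙 (CohB1.tensorPow L q))) (𝟙 L)) =
      imageSubobject ((SecTwist.unitorR (D.K.X (q + 1))).inv ≫ KoszTw.tensorMap (D.K.d (q + 1) q) lam ≫
        KoszTw.tensorMap θ.iso.hom (𝟙 L)) := by
  haveI := Groth.KTheory.LocFree.isQCoh hF
  haveI := Groth.KTheory.LocFree.isQCoh (isFinLocFree_of_rank (isInvertible_iff_ofRank_one.1 hL))
  haveI := isQCoh_tensorPow L q
  haveI : (C.K.X (q + 1)).IsQuasicoherent := isQCoh_of_isExtPow (KoszSh.Cx.isExtPow C (q + 1))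
  haveI := Groth.QCohMod.isQCoh_tensorMod (M := C.K.X (q + 1)) (N := CohB1.tensorPow L q)
  have key : ∀ (V : X.affineOpens) (l : Γ(L, V.1)) (a : Γ(X, V.1)),
      (Function.Bijective fun r : Γ(X, V.1) => r • l) → lam.app V.1 (oneSec X V.1) = a • l →
      ∀ ω : ESec (q + 1) F V.1,
      ((SecTwist.unitorR (D.K.X (q + 1))).inv ≫ KoszTw.tensorMap (D.K.d (q + 1) q) lam ≫
        KoszTw.tensorMap θ.iso.hom (𝟙 L)).app V.1 ((D.loc (q + 1) V).symm (exteriorPower.map (q + 1) (tw V.1 l) ω)) =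
      (KoszTw.tensorMap (KoszTw.tensorMap (C.K.d (q + 1) q) (𝟙 (CohB1.tensorPow L q))) (𝟙 L)).app V.1
        (tmulSec (tmulSec ((C.loc (q + 1) V).symm ω) (KoszTw.tprod L q V.1 (fun _ => l))) l) := by
    intro V l a hl ha ω
    obtain ⟨ω', h1, h2⟩ := d_formula (C := C) (D := D) htri q V l hl a ha ω
    set x := (D.loc (q + 1) V).symm (exteriorPower.map (q + 1) (tw V.1 l) ω)
    have hu : (SecTwist.unitorR (D.K.X (q + 1))).inv.app V.1 x = tmulSec x (oneSec X V.1) := by
      have h := SecTwist.unitorR_tmul (D.K.X (q + 1)) V.1 x (1 : Γ(X, V.1))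
      rw [one_smul] at h
      conv_lhs => rw [← h]
      exact congr(($((SecTwist.unitorR (D.K.X (q + 1))).hom_inv_id)).app V.1 (tmulSec x (oneSec X V.1)))
    rw [comp_app_apply, comp_app_apply, hu, tensorMap_app_tmulSec, tensorMap_app_tmulSec, tensorMap_app_tmulSec,
      tensorMap_app_tmulSec, h1, h2, theta_formula, ha, id_app_apply, id_app_apply, id_app_apply, map_smul,
      tmulSec_smul_right, tmulSec_smul_left, tmulSec_smul_left]
  refine le_antisymm (imageSubobject_le_of_sections _ _ fun x W hxW => ?_)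
    (imageSubobject_le_of_sections _ _ fun x W hxW => ?_) <;>
    obtain ⟨V, l, a, hxV, hVW, hl, ha⟩ := exists_small (lam := lam) hL x W hxW <;>
    refine ⟨V.1, hxV, hVW, fun m => ?_⟩
  · obtain ⟨y, rfl⟩ := (tmul_bijective (M := CohB1.tensorMod (C.K.X (q + 1)) (CohB1.tensorPow L q)) V.2 l hl).2 m
    obtain ⟨z, rfl⟩ := (tmul_bijective (M := C.K.X (q + 1)) V.2 _ (tprod_bijective V.2 l hl q)).2 y
    refine ⟨_, (key V l a hl ha (C.loc (q + 1) V z)).trans ?_⟩
    rw [LinearEquiv.symm_apply_apply]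
  · obtain ⟨ω, hω⟩ := (map_tw_bijective (F := F) V l hl (q + 1)).2 (D.loc (q + 1) V m)
    refine ⟨_, (key V l a hl ha ω).symm.trans ?_⟩
    rw [hω, LinearEquiv.symm_apply_apply]

end Groth.KoszShLib
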