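import Mathlib
import Groth.Agent.KoszShLib.Twist
import Groth.Agent.PicAux.EffCartierLine
import Groth.Agent.DerivedCoh.PCoh.TensorPerfect
import Groth.Agent.QCohMod.ClosedImm

/-! The inclusion of the sum of the ideals `I_i J` in the sum of the ideals `I_i`; exterior powers of a
multiplication. -/

set_option autoImplicit false
set_option backward.isDefEq.respectTransparency false

universe u

open CategoryTheory CategoryTheory.Limits AlgebraicGeometry TopologicalSpace Opposite

noncomputable section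

namespace Groth.KoszShLib

open Groth.PicAux Groth.LocFree
open Groth.QCohMod (appₗ)

section Algebra

variable {R M : Type*} [CommRing R] [AddCommGroup M] [Module R M]

theorem map_smul_id (q : ℕ) (x : R) (a : ↥(⋀[R]^q M)) :
    exteriorPower.map q (x • (LinearMap.id : M →ₗ[R] M)) a = x ^ q • a := by
  have h : exteriorPower.map q (x • (LinearMap.id : M →ₗ[R] M)) = x ^ q • LinearMap.id := by
    refine exteriorPower.linearMap_ext (AlternatingMap.ext fun e => ?_)
    simp only [LinearMap.compAlternatingMap_apply, exteriorPower.map_apply_ιMulti, LinearMap.smul_apply,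
      LinearMap.id_coe, id_eq]
    rw [show ((x • (LinearMap.id : M →ₗ[R] M) : M →ₗ[R] M) : M → M) ∘ e = fun i => x • e i from rfl,
      ← AlternatingMap.coe_multilinearMap, MultilinearMap.map_smul_univ, Finset.prod_const, Finset.card_univ,
      Fintype.card_fin]
  rw [h]
  rfl

/-- An injective map with range `x • M` has `q`-th exterior power injective with range `x ^ q • ⋀^q M`. -/
theorem map_range_smul {N : Type*} [AddCommGroup N] [Module R N] (q : ℕ) (f : N →ₗ[R] M) (x : R)
    (hf : Function.Injective f) (hx : IsSMulRegular M x) (hxq : IsSMulRegular (⋀[R]^q M) x)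
    (h₁ : ∀ n, ∃ m, f n = x • m) (h₂ : ∀ m, ∃ n, f n = x • m) :
    Function.Injective (exteriorPower.map q f) ∧
      (∀ a, ∃ b, exteriorPower.map q f a = x ^ q • b) ∧ ∀ b, ∃ a, exteriorPower.map q f a = x ^ q • b := by
  choose σ hσ using h₁
  let σl : N →ₗ[R] M :=
    { toFun := σ
      map_add' := fun a b => hx (show x • σ (a + b) = x • (σ a + σ b) by rw [← hσ, map_add, smul_add, ← hσ, ← hσ])
      map_smul' := fun r a => hx (show x • σ (r • a) = x • (r • σ a) by rw [← hσ, map_smul, smul_comm, ← hσ]) }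
  have hb : Function.Bijective σl := by
    refine ⟨fun a b h => hf (by rw [hσ a, hσ b]; exact congrArg (x • ·) h), fun m => ?_⟩
    obtain ⟨n, hn⟩ := h₂ m
    exact ⟨n, hx ((hσ n).symm.trans hn)⟩
  let e := LinearEquiv.ofBijective σl hb
  have hfe : f = (x • LinearMap.id) ∘ₗ σl := LinearMap.ext hσ
  have hm : ∀ a, exteriorPower.map q f a = x ^ q • exteriorPower.map q σl a := fun a => by
    rw [hfe, exteriorPower.map_comp, LinearMap.comp_apply, map_smul_id]
  have hσb : Function.Bijective (exteriorPower.map q σl) := by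
    refine Function.bijective_iff_has_inverse.2 ⟨exteriorPower.map q e.symm.toLinearMap, fun a => ?_, fun a => ?_⟩
    · rw [← LinearMap.comp_apply, ← exteriorPower.map_comp,
        show e.symm.toLinearMap ∘ₗ σl = LinearMap.id from LinearMap.ext e.symm_apply_apply,
        exteriorPower.map_id, LinearMap.id_apply]
    · rw [← LinearMap.comp_apply, ← exteriorPower.map_comp,
        show σl ∘ₗ e.symm.toLinearMap = LinearMap.id from LinearMap.ext e.apply_symm_apply,
        exteriorPower.map_id, LinearMap.id_apply]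
  refine ⟨fun a b h => hσb.1 (hxq.pow q (show x ^ q • exteriorPower.map q σl a = x ^ q • exteriorPower.map q σl b by rw [← hm, ← hm]; exact h)), fun a => ⟨_, hm a⟩, fun b => ?_⟩
  obtain ⟨a, rfl⟩ := hσb.2 b
  exact ⟨a, hm a⟩

end Algebra

variable {X : Scheme.{u}}

/-- The inclusion of `I J` in `I`. -/
theorem exists_incl (I J : X.IdealSheafData) :
    ∃ φ : ClSub.idealMod (I * J) ⟶ ClSub.idealMod I, φ ≫ ClSub.idealModι I = ClSub.idealModι (I * J) := by
  refine ⟨kernel.lift _ (ClSub.idealModι (I * J)) ?_, kernel.lift_ι _ _ _⟩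
  refine hom_eq_zero_of_small _ fun x W hxW => ?_
  obtain ⟨_, ⟨V, hV, rfl⟩, hxV, hVW⟩ := X.isBasis_affineOpens.exists_subset_of_mem_open (show x ∈ (W : Set X) from hxW) W.2
  refine ⟨V, hxV, hVW, fun m => ?_⟩
  have h := Groth.OmegaSheaf.idealSect_mem (I * J) ⟨V, hV⟩ m
  rw [Scheme.IdealSheafData.ideal_mul, Pi.mul_apply] at h
  have h' : OmegaSh.idealSect (I * J) V m ∈ I.ideal ⟨V, hV⟩ := (Ideal.mul_le_left : I.ideal ⟨V, hV⟩ * J.ideal ⟨V, hV⟩ ≤ I.ideal ⟨V, hV⟩) h
  have h'' : I.subschemeι.app V (OmegaSh.idealSect (I * J) V m) = 0 :=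
    RingHom.mem_ker.1 ((I.ker_subschemeι_app ⟨V, hV⟩).ge h')
  rw [comp_app_apply]
  exact h''

/-- the inclusion -/
def incl (I J : X.IdealSheafData) : ClSub.idealMod (I * J) ⟶ ClSub.idealMod I := (exists_incl I J).choose

theorem incl_ι (I J : X.IdealSheafData) : incl I J ≫ ClSub.idealModι I = ClSub.idealModι (I * J) :=
  (exists_incl I J).choose_spec

theorem idealSect_incl (I J : X.IdealSheafData) (U : X.Opens) (k : Γ(ClSub.idealMod (I * J), U)) :
    OmegaSh.idealSect I U ((incl I J).app U k) = OmegaSh.idealSect (I * J) U k := by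
  show OmegaSh.fnSect X U ((ClSub.idealModι I).app U ((incl I J).app U k)) = OmegaSh.fnSect X U ((ClSub.idealModι (I * J)).app U k)
  rw [← comp_app_apply, incl_ι]

theorem incl_app (I J : X.IdealSheafData) (U : X.affineOpens) (x : Γ(X, U.1)) (hJ : J.ideal U = Ideal.span {x}) :
    Function.Injective ((incl I J).app U.1) ∧ (∀ n, ∃ m, (incl I J).app U.1 n = x • m) ∧
      ∀ m, ∃ n, (incl I J).app U.1 n = x • m := by
  refine ⟨fun a b h => Groth.OmegaSheaf.idealSect_injective (I * J) U.1 (by rw [← idealSect_incl, h, idealSect_incl]),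
    fun n => ?_, fun m => ?_⟩
  · have h := Groth.OmegaSheaf.idealSect_mem (I * J) U n
    rw [Scheme.IdealSheafData.ideal_mul, Pi.mul_apply, hJ, mul_comm, Ideal.mem_span_singleton_mul] at h
    obtain ⟨y, hy, hxy⟩ := h
    obtain ⟨m, rfl⟩ := Groth.OmegaSheaf.exists_idealSect I U hy
    refine ⟨m, Groth.OmegaSheaf.idealSect_injective I U.1 ?_⟩
    rw [idealSect_incl, Groth.OmegaSheaf.idealSect_smul, hxy]
  · have h : x * OmegaSh.idealSect I U.1 m ∈ (I * J).ideal U := by
      rw [Scheme.IdealSheafData.ideal_mul, Pi.mul_apply, hJ, mul_comm (I.ideal U), Ideal.mem_span_singleton_mul]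
      exact ⟨_, Groth.OmegaSheaf.idealSect_mem I U m, rfl⟩
    obtain ⟨n, hn⟩ := Groth.OmegaSheaf.exists_idealSect (I * J) U h
    refine ⟨n, Groth.OmegaSheaf.idealSect_injective I U.1 ?_⟩
    rw [idealSect_incl, hn, Groth.OmegaSheaf.idealSect_smul]

theorem app_sum' {M N : X.Modules} {ι : Type*} (s : Finset ι) (f : ι → (M ⟶ N)) (U : X.Opens) (m : Γ(M, U)) :
    (∑ i ∈ s, f i).app U m = ∑ i ∈ s, (f i).app U m := by
  classical
  induction s using Finset.induction with
  | empty => simp only [Finset.sum_empty]; rfl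
  | insert a s ha ih =>
    rw [Finset.sum_insert ha, Finset.sum_insert ha, ← ih]
    rfl

variable {n : ℕ}

/-- projections of a finite sum -/
def proj (M : Fin n → X.Modules) (i : Fin n) : (∐ M) ⟶ M i :=
  Sigma.desc fun j => if h : j = i then eqToHom (congrArg M h) else 0

theorem ι_proj (M : Fin n → X.Modules) (i : Fin n) : Sigma.ι M i ≫ proj M i = 𝟙 _ := by simp [proj]

theorem ι_proj_ne (M : Fin n → X.Modules) {i j : Fin n} (h : j ≠ i) : Sigma.ι M j ≫ proj M i = 0 := by simp [proj, h]

theorem sum_proj (M : Fin n → X.Modules) : ∑ i, proj M i ≫ Sigma.ι M i = 𝟙 (∐ M) := by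
  refine Sigma.hom_ext _ _ fun j => ?_
  rw [Preadditive.comp_sum, Finset.sum_eq_single j, ← Category.assoc, ι_proj, Category.id_comp, Category.comp_id]
  · intro i _ hij
    rw [← Category.assoc, ι_proj_ne M (Ne.symm hij), zero_comp]
  · simp

theorem sum_decomp (M : Fin n → X.Modules) (U : X.Opens) (m : Γ(∐ M, U)) :
    m = ∑ i, (Sigma.ι M i).app U ((proj M i).app U m) := by
  have h := congr(($(sum_proj M)).app U m)
  rw [app_sum'] at h
  exact h.symm

/-- the sum of the inclusions -/
def sumIncl (I : Fin n → X.IdealSheafData) (J : X.IdealSheafData) :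
    (∐ fun i => ClSub.idealMod (I i * J)) ⟶ ∐ fun i => ClSub.idealMod (I i) :=
  Limits.Sigma.map fun i => incl (I i) J

theorem sumIncl_desc (I : Fin n → X.IdealSheafData) (J : X.IdealSheafData) :
    sumIncl I J ≫ Limits.Sigma.desc (fun i => ClSub.idealModι (I i)) =
      Limits.Sigma.desc fun i => ClSub.idealModι (I i * J) := by
  refine Sigma.hom_ext _ _ fun i => ?_
  simp [sumIncl, incl_ι]

theorem sumIncl_app (I : Fin n → X.IdealSheafData) (J : X.IdealSheafData) (U : X.affineOpens) (x : Γ(X, U.1))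
    (hJ : J.ideal U = Ideal.span {x}) :
    Function.Injective ((sumIncl I J).app U.1) ∧ (∀ a, ∃ m, (sumIncl I J).app U.1 a = x • m) ∧
      ∀ m, ∃ a, (sumIncl I J).app U.1 a = x • m := by
  have hι : ∀ i b, (sumIncl I J).app U.1 ((Sigma.ι (fun i => ClSub.idealMod (I i * J)) i).app U.1 b) =
      (Sigma.ι (fun i => ClSub.idealMod (I i)) i).app U.1 ((incl (I i) J).app U.1 b) := fun i b => by
    rw [← comp_app_apply, ← comp_app_apply]
    simp [sumIncl]
  have hπ : ∀ i, sumIncl I J ≫ proj (fun i => ClSub.idealMod (I i)) i =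
      proj (fun i => ClSub.idealMod (I i * J)) i ≫ incl (I i) J := fun i => by
    refine Sigma.hom_ext _ _ fun j => ?_
    simp only [sumIncl, Limits.Sigma.ι_map_assoc]
    by_cases h : j = i
    · subst h
      rw [reassoc_of% (ι_proj (fun i => ClSub.idealMod (I i * J)) j), ι_proj, Category.comp_id]
    · rw [reassoc_of% (ι_proj_ne (fun i => ClSub.idealMod (I i * J)) h), ι_proj_ne _ h, comp_zero, zero_comp]
  refine ⟨fun a b h => ?_, fun a => ?_, fun m => ?_⟩
  · rw [sum_decomp _ U.1 a, sum_decomp _ U.1 b]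
    refine Finset.sum_congr rfl fun i _ => congrArg _ ((incl_app (I i) J U x hJ).1 ?_)
    rw [← comp_app_apply, ← comp_app_apply, ← hπ, comp_app_apply, comp_app_apply, h]
  · choose m hm using fun i => (incl_app (I i) J U x hJ).2.1 ((proj (fun i => ClSub.idealMod (I i * J)) i).app U.1 a)
    refine ⟨∑ i, (Sigma.ι (fun i => ClSub.idealMod (I i)) i).app U.1 (m i), ?_⟩
    conv_lhs => rw [sum_decomp _ U.1 a]
    rw [map_sum, Finset.smul_sum]
    refine Finset.sum_congr rfl fun i _ => ?_
    rw [hι, hm, Scheme.Modules.Hom.app_smul]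
  · choose b hb using fun i => (incl_app (I i) J U x hJ).2.2 ((proj (fun i => ClSub.idealMod (I i)) i).app U.1 m)
    refine ⟨∑ i, (Sigma.ι (fun i => ClSub.idealMod (I i * J)) i).app U.1 (b i), ?_⟩
    conv_rhs => rw [sum_decomp _ U.1 m]
    rw [map_sum, Finset.smul_sum]
    refine Finset.sum_congr rfl fun i _ => ?_
    rw [hι, hb, Scheme.Modules.Hom.app_smul]

theorem isFinLocFree_sum (I : Fin n → X.IdealSheafData) (hI : ∀ i, BlowUp.IsEffCartierIdeal (I i)) :
    FlatMod.IsFinLocFree (∐ fun i => ClSub.idealMod (I i)) :=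
  Groth.DerivedCoh.PCoh.isFinLocFree_sigma_finite (Fin n) _ fun i =>
    isFinLocFree_of_rank (isInvertible_iff_ofRank_one.1 (isInvertible_idealMod (hI i)))

/-- A nonzerodivisor acts injectively on the sections of a finite locally free module. -/
theorem regular_sections {M : X.Modules} (hM : FlatMod.IsFinLocFree M) (U : X.affineOpens) {x : Γ(X, U.1)}
    (hx : x ∈ nonZeroDivisors Γ(X, U.1)) : IsSMulRegular Γ(M, U.1) x := by
  haveI := projective_sections hM U.2
  intro a b h
  refine sub_eq_zero.1 (smul_eq_zero_of_projective (a := x) (fun r hr => (mem_nonZeroDivisors_iff_right.1 hx) r hr) ?_)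
  rw [smul_sub, sub_eq_zero]
  exact h

end Groth.KoszShLib
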