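import Mathlib
import Groth.Agent.KoszShLib.SumMap

/-! Koszul homology of the sum of the divisors `Y_i + D`. -/

set_option autoImplicit false
set_option backward.isDefEq.respectTransparency false

universe u

open CategoryTheory CategoryTheory.Limits AlgebraicGeometry TopologicalSpace Opposite

noncomputable section

namespace Groth.KoszShLib

open Groth.PicAux Groth.LocFree
open Groth.QCohMod (appₗ)

variable {X : Scheme.{u}}

theorem isQCoh_cycles (K : ChainComplex X.Modules ℕ) (hK : ∀ p, (K.X p).IsQuasicoherent) (q : ℕ) :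
    (K.cycles q).IsQuasicoherent := by
  haveI := hK q
  haveI := hK ((ComplexShape.down ℕ).next q)
  exact Groth.QCohMod.isQCoh_of_mono_exact
    (S := ShortComplex.mk (K.iCycles q) (K.d q ((ComplexShape.down ℕ).next q)) (K.iCycles_d _ _))
    (ShortComplex.exact_of_f_is_kernel _ (K.cyclesIsKernel q _ rfl))

theorem toCycles_exact (K : ChainComplex X.Modules ℕ) (q : ℕ) :
    (ShortComplex.mk (K.toCycles (q + 1) q) (K.homologyπ q) (K.toCycles_comp_homologyπ _ _)).Exact :=
  ShortComplex.exact_of_g_is_cokernel _ (K.homologyIsCokernel (q + 1) q (by simp))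

theorem isQCoh_homology (K : ChainComplex X.Modules ℕ) (hK : ∀ p, (K.X p).IsQuasicoherent) (q : ℕ) :
    (K.homology q).IsQuasicoherent := by
  haveI := hK (q + 1)
  haveI := isQCoh_cycles K hK q
  exact Groth.QCohMod.isQCoh_of_epi_exact
    (S := ShortComplex.mk (K.toCycles (q + 1) q) (K.homologyπ q) (K.toCycles_comp_homologyπ _ _))
    (toCycles_exact K q)

theorem exists_cycle (K : ChainComplex X.Modules ℕ) (q : ℕ) (U : X.Opens) (a : Γ(K.X q, U))
    (ha : (K.d q ((ComplexShape.down ℕ).next q)).app U a = 0) :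
    ∃ z : Γ(K.cycles q, U), (K.iCycles q).app U z = a :=
  Groth.QCohMod.exists_app_eq_of_mono_exact
    (S := ShortComplex.mk (K.iCycles q) (K.d q ((ComplexShape.down ℕ).next q)) (K.iCycles_d _ _))
    (ShortComplex.exact_of_f_is_kernel _ (K.cyclesIsKernel q _ rfl)) U a ha

variable {L : X.Modules}

/-- the power of a cosection of a line bundle -/
def lamPow (ι₀ : L ⟶ Coh.structureModule X) : ∀ q : ℕ, CohB1.tensorPow L q ⟶ Coh.structureModule X
  | 0 => 𝟙 (Coh.structureModule X)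
  | q + 1 => KoszTw.tensorMap (lamPow ι₀ q) ι₀ ≫ (SecTwist.unitorR (Coh.structureModule X)).hom

theorem unitor_app (M : X.Modules) (U : X.Opens) (m : Γ(M, U)) (r : Γ(X, U)) :
    (SecTwist.unitorR M).hom.app U (tmulSec m (r • oneSec X U)) = r • m := by
  rw [tmulSec_smul_right, Scheme.Modules.Hom.app_smul]
  congr 1
  have h := SecTwist.unitorR_tmul M U m (1 : Γ(X, U))
  rw [one_smul] at h
  exact h

theorem exists_pow_gen [L.IsQuasicoherent] (ι₀ : L ⟶ Coh.structureModule X) {U : X.Opens} (hU : IsAffineOpen U)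
    (l : Γ(L, U)) (hl : Function.Bijective fun r : Γ(X, U) => r • l) (x : Γ(X, U))
    (hx : ι₀.app U l = x • oneSec X U) (q : ℕ) :
    ∃ g : Γ(CohB1.tensorPow L q, U), (Function.Bijective fun r : Γ(X, U) => r • g) ∧
      (lamPow ι₀ q).app U g = x ^ q • oneSec X U := by
  refine ⟨KoszTw.tprod L q U (fun _ => l), tprod_bijective hU l hl q, ?_⟩
  induction q with
  | zero =>
    show (𝟙 (Coh.structureModule X) : Coh.structureModule X ⟶ _).app U _ = _
    rw [pow_zero, one_smul]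
    rfl
  | succ q ih =>
    show (KoszTw.tensorMap (lamPow ι₀ q) ι₀ ≫ (SecTwist.unitorR (Coh.structureModule X)).hom).app U
      (tmulSec (KoszTw.tprod L q U fun _ => l) l) = _
    rw [comp_app_apply, tensorMap_app_tmulSec, ih, hx, unitor_app, smul_smul]
    congr 1
    ring

/-- multiplication by the cosection power -/
def mulPow (ι₀ : L ⟶ Coh.structureModule X) (M : X.Modules) (q : ℕ) :
    CohB1.tensorMod M (CohB1.tensorPow L q) ⟶ M :=
  KoszTw.tensorMap (𝟙 M) (lamPow ι₀ q) ≫ (SecTwist.unitorR M).hom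

theorem mulPow_app (ι₀ : L ⟶ Coh.structureModule X) (M : X.Modules) (q : ℕ) (U : X.Opens) (m : Γ(M, U))
    (g : Γ(CohB1.tensorPow L q, U)) (r : Γ(X, U)) (hg : (lamPow ι₀ q).app U g = r • oneSec X U) :
    (mulPow ι₀ M q).app U (tmulSec m g) = r • m := by
  rw [mulPow, comp_app_apply, tensorMap_app_tmulSec, hg, id_app_apply, unitor_app]

variable {n : ℕ} (IY : Fin n → X.IdealSheafData) (ID : X.IdealSheafData)
  (hY : ∀ i, BlowUp.IsEffCartierIdeal (IY i)) (hD : BlowUp.IsEffCartierIdeal ID)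
  (C : KoszSh.Cx (∐ fun i => ClSub.idealMod (IY i)) (Limits.Sigma.desc fun i => ClSub.idealModι (IY i)))
  (C' : KoszSh.Cx (∐ fun i => ClSub.idealMod (IY i * ID)) (Limits.Sigma.desc fun i => ClSub.idealModι (IY i * ID)))

include hY in
theorem isQCoh_term (p : ℕ) : (C.K.X p).IsQuasicoherent := by
  haveI := Groth.KTheory.LocFree.isQCoh (isFinLocFree_sum IY hY)
  exact isQCoh_of_isExtPow (KoszSh.Cx.isExtPow C p)

theorem isQCoh_term' (p : ℕ) : (C'.K.X p).IsQuasicoherent := by
  haveI : (∐ fun i => ClSub.idealMod (IY i * ID)).IsQuasicoherent :=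
    haveI : ∀ j, ((Discrete.functor fun i => ClSub.idealMod (IY i * ID)).obj j).IsQuasicoherent :=
      fun j => Groth.OmegaSheaf.isQCoh_idealMod (IY j.as * ID)
    Groth.QCohMod.isQCoh_of_isColimit (Discrete.functor fun i => ClSub.idealMod (IY i * ID)) _ (colimit.isColimit _)
  exact isQCoh_of_isExtPow (KoszSh.Cx.isExtPow C' p)

include hY in
theorem regular_term (p : ℕ) (U : X.affineOpens) {x : Γ(X, U.1)} (hx : x ∈ nonZeroDivisors Γ(X, U.1)) :
    IsSMulRegular Γ(C.K.X p, U.1) x :=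
  regular_sections (isFinLocFree_of_isExtPow (isFinLocFree_sum IY hY) (KoszSh.Cx.isExtPow C p)) U hx

/-- The chain map of the inclusions. -/
theorem exists_chain : ∃ φ : C'.K ⟶ C.K, ∀ (p : ℕ) (U : X.affineOpens) (a : Γ(C'.K.X p, U.1)),
    C.loc p U ((φ.f p).app U.1 a) = exteriorPower.map p (appₗ (sumIncl IY ID) U.1) (C'.loc p U a) := by
  obtain ⟨φ, hφ, -⟩ := existsUnique_chainMap C' (sumIncl IY ID) (sumIncl_desc IY ID) C
  refine ⟨φ, fun p U a => ?_⟩
  obtain ⟨a, rfl⟩ := (C'.loc p U).symm.surjective a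
  rw [LinearEquiv.apply_symm_apply]
  induction a using esec_induction with
  | wedge e => rw [hφ, LinearEquiv.apply_symm_apply, exteriorPower.map_apply_ιMulti]; rfl
  | zero => simp only [map_zero]
  | add a b ha hb => simp only [map_add, ha, hb]
  | smul r a ha => simp only [map_smul, Scheme.Modules.Hom.app_smul, ha]

include hY in
theorem chain_app {φ : C'.K ⟶ C.K} (hφ : ∀ (p : ℕ) (U : X.affineOpens) (a : Γ(C'.K.X p, U.1)),
      C.loc p U ((φ.f p).app U.1 a) = exteriorPower.map p (appₗ (sumIncl IY ID) U.1) (C'.loc p U a))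
    (U : X.affineOpens) {x : Γ(X, U.1)} (hx : x ∈ nonZeroDivisors Γ(X, U.1))
    (hID : ID.ideal U = Ideal.span {x}) (p : ℕ) :
    Function.Injective ((φ.f p).app U.1) ∧ (∀ a, ∃ b, (φ.f p).app U.1 a = x ^ p • b) ∧
      ∀ b, ∃ a, (φ.f p).app U.1 a = x ^ p • b := by
  have hE : IsSMulRegular Γ(∐ fun i => ClSub.idealMod (IY i), U.1) x := regular_sections (isFinLocFree_sum IY hY) U hx
  have hq : IsSMulRegular (ESec p (∐ fun i => ClSub.idealMod (IY i)) U.1) x := fun a b h =>
    (C.loc p U).symm.injective (regular_term IY hY C p U hx (show x • (C.loc p U).symm a = x • (C.loc p U).symm b by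
      rw [← map_smul, ← map_smul]; exact congrArg (C.loc p U).symm h))
  obtain ⟨h1, h2, h3⟩ := sumIncl_app IY ID U x hID
  obtain ⟨g1, g2, g3⟩ := map_range_smul p (appₗ (sumIncl IY ID) U.1) x h1 hE hq h2 h3
  refine ⟨fun a b h => (C'.loc p U).injective (g1 (by rw [← hφ, ← hφ, h])), fun a => ?_, fun b => ?_⟩
  · obtain ⟨b, hb⟩ := g2 (C'.loc p U a)
    exact ⟨(C.loc p U).symm b, (C.loc p U).injective (by rw [hφ, map_smul, LinearEquiv.apply_symm_apply, hb])⟩
  · obtain ⟨a, ha⟩ := g3 (C.loc p U b)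
    exact ⟨(C'.loc p U).symm a, (C.loc p U).injective (by rw [hφ, LinearEquiv.apply_symm_apply, ha, map_smul])⟩

theorem biprod_lift_ext {A P Q : X.Modules} (a : A ⟶ P) (b : A ⟶ Q) [Mono (biprod.lift a b)] (U : X.Opens)
    (s t : Γ(A, U)) (ha : a.app U s = a.app U t) (hb : b.app U s = b.app U t) : s = t := by
  refine Groth.QCohMod.app_injective_of_mono (biprod.lift a b) U ?_
  have h : biprod.lift a b = a ≫ biprod.inl + b ≫ biprod.inr := by
    refine biprod.hom_ext _ _ ?_ ?_ <;> simp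
  rw [h]
  show (a ≫ biprod.inl).app U s + (b ≫ biprod.inr).app U s = (a ≫ biprod.inl).app U t + (b ≫ biprod.inr).app U t
  rw [comp_app_apply, comp_app_apply, comp_app_apply, comp_app_apply, ha, hb]

theorem pullback_sec_ext {A B T : X.Modules} (f : A ⟶ T) (g : B ⟶ T) (U : X.Opens) (s t : Γ(pullback f g, U))
    (h₁ : (pullback.fst f g).app U s = (pullback.fst f g).app U t)
    (h₂ : (pullback.snd f g).app U s = (pullback.snd f g).app U t) : s = t := by
  haveI : Mono (biprod.lift (pullback.fst f g) (pullback.snd f g)) :=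
    ⟨fun u v h => pullback.hom_ext (by simpa using h =≫ biprod.fst) (by simpa using h =≫ biprod.snd)⟩
  exact biprod_lift_ext _ _ U s t h₁ h₂

section Main

variable (q : ℕ)
  (hreg : ∀ (U : X.affineOpens) (x : Γ(X, U.1)), x ∈ nonZeroDivisors Γ(X, U.1) → ID.ideal U = Ideal.span {x} →
    IsSMulRegular Γ(C.K.homology q, U.1) x)

local notation "RD" => Scheme.Modules.pullback (Scheme.IdealSheafData.subschemeι ID) ⋙
  Scheme.Modules.pushforward (Scheme.IdealSheafData.subschemeι ID)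

/-- the restriction to the divisor -/
abbrev unitD (ID : X.IdealSheafData) (M : X.Modules) :
    M ⟶ (Scheme.Modules.pullback ID.subschemeι ⋙ Scheme.Modules.pushforward ID.subschemeι).obj M :=
  (Scheme.Modules.pullbackPushforwardAdjunction ID.subschemeι).unit.app M

theorem unitD_naturality (ID : X.IdealSheafData) {M N : X.Modules} (f : M ⟶ N) :
    unitD ID M ≫ (Scheme.Modules.pullback ID.subschemeι ⋙ Scheme.Modules.pushforward ID.subschemeι).map f =
      f ≫ unitD ID N :=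
  ((Scheme.Modules.pullbackPushforwardAdjunction ID.subschemeι).unit.naturality f).symm

theorem isQCoh_RD (M : X.Modules) [M.IsQuasicoherent] : ((RD).obj M).IsQuasicoherent := by
  haveI := Groth.QCohMod.isQCoh_pullback_obj ID.subschemeι M
  exact Groth.QCohMod.isQCoh_pushforward ((Scheme.Modules.pullback ID.subschemeι).obj M) ID.subschemeι

theorem unit_RD (M : X.Modules) [M.IsQuasicoherent] (U : X.affineOpens) (x : Γ(X, U.1))
    (hID : ID.ideal U = Ideal.span {x}) :
    Function.Surjective ((unitD ID M).app U.1) ∧ ∀ s : Γ(M, U.1), (unitD ID M).app U.1 s = 0 ↔ ∃ t, s = x • t := by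
  obtain ⟨h1, h2⟩ := Groth.QCohMod.unit_closedImmersion_app ID.subschemeι M U.2
  refine ⟨h1, fun s => (h2 s).trans ?_⟩
  have hker : ID.subschemeι.ker.ideal ⟨U.1, U.2⟩ = Ideal.span {x} := by rw [ID.ker_subschemeι]; exact hID
  rw [hker, Submodule.ideal_span_singleton_smul]
  refine ⟨fun h => ?_, ?_⟩
  · obtain ⟨t, -, rfl⟩ := h
    exact ⟨t, rfl⟩
  · rintro ⟨t, rfl⟩
    exact Submodule.smul_mem_pointwise_smul t x ⊤ trivial

include hY hD hreg in
theorem nonempty_iso :
    Nonempty (C'.K.homology q ≅ CohB1.tensorMod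
      (Limits.pullback ((RD).map (C.K.homologyπ q)) (unitD ID (C.K.homology q)))
      (CohB1.tensorPow (ClSub.idealMod ID) q)) := by
  obtain ⟨φ, hφ⟩ := exists_chain IY ID C C'
  have hC := isQCoh_term IY hY C
  have hC' := isQCoh_term' IY ID C'
  haveI hH := isQCoh_homology C.K hC q
  haveI hZ := isQCoh_cycles C.K hC q
  haveI hZ' := isQCoh_cycles C'.K hC' q
  haveI := hC q
  haveI := hC (q + 1)
  haveI := hC' (q + 1)
  haveI hRH := isQCoh_RD ID (C.K.homology q)
  haveI hRZ := isQCoh_RD ID (C.K.cycles q)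
  haveI : (ClSub.idealMod ID).IsQuasicoherent := Groth.OmegaSheaf.isQCoh_idealMod ID
  haveI := isQCoh_tensorPow (ClSub.idealMod ID) q
  let π := C.K.homologyπ q
  let α : C.K.cycles q ⟶ Limits.pullback ((RD).map π) (unitD ID (C.K.homology q)) :=
    pullback.lift (unitD ID (C.K.cycles q)) π
      (unitD_naturality ID π)
  have hα₁ : α ≫ pullback.fst _ _ = unitD ID (C.K.cycles q) := pullback.lift_fst _ _ _
  have hα₂ : α ≫ pullback.snd _ _ = π := pullback.lift_snd _ _ _
  -- good affines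
  have cover : ∀ (p : X) (W : X.Opens), p ∈ W → ∃ (U : X.affineOpens) (x : Γ(X, U.1)),
      p ∈ U.1 ∧ U.1 ≤ W ∧ x ∈ nonZeroDivisors Γ(X, U.1) ∧ ID.ideal U = Ideal.span {x} := fun p W hp => by
    obtain ⟨U, hpU, hUW, x, hx, hxI⟩ := Divisors.exists_generator hD p W hp
    exact ⟨U, x, hpU, hUW, hx.mem_nonZeroDivisors, hxI⟩
  -- the two monomorphisms into the term of degree q
  let ι₀ := ClSub.idealModι ID
  let ψ : CohB1.tensorMod (C.K.cycles q) (CohB1.tensorPow (ClSub.idealMod ID) q) ⟶ C.K.X q :=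
    mulPow ι₀ (C.K.cycles q) q ≫ C.K.iCycles q
  let ψ' : C'.K.cycles q ⟶ C.K.X q := C'.K.iCycles q ≫ φ.f q
  haveI hT := Groth.QCohMod.isQCoh_tensorMod (M := C.K.cycles q) (N := CohB1.tensorPow (ClSub.idealMod ID) q)
  -- local description
  have loc : ∀ (U : X.affineOpens) (x : Γ(X, U.1)), x ∈ nonZeroDivisors Γ(X, U.1) → ID.ideal U = Ideal.span {x} →
      ∃ g : Γ(CohB1.tensorPow (ClSub.idealMod ID) q, U.1), (Function.Bijective fun r : Γ(X, U.1) => r • g) ∧
        (∀ z, ψ.app U.1 (tmulSec z g) = x ^ q • (C.K.iCycles q).app U.1 z) ∧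
        Function.Injective (ψ.app U.1) ∧ Function.Injective (ψ'.app U.1) ∧
        (∀ a, ∃ z, ψ'.app U.1 a = x ^ q • (C.K.iCycles q).app U.1 z) ∧
        ∀ z, ∃ a, ψ'.app U.1 a = x ^ q • (C.K.iCycles q).app U.1 z := by
    intro U x hx hID
    obtain ⟨l, hl⟩ := Groth.OmegaSheaf.exists_idealSect ID U (hID ▸ Ideal.mem_span_singleton_self x)
    have hlb : Function.Bijective fun r : Γ(X, U.1) => r • l := by
      refine ⟨fun r s h => ?_, fun t => ?_⟩
      · have h' := congrArg (OmegaSh.idealSect ID U.1) h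
        simp only [Groth.OmegaSheaf.idealSect_smul, hl] at h'
        exact (mul_cancel_right_mem_nonZeroDivisors hx).1 h'
      · have ht := Groth.OmegaSheaf.idealSect_mem ID U t
        rw [hID, Ideal.mem_span_singleton'] at ht
        obtain ⟨r, hr⟩ := ht
        refine ⟨r, Groth.OmegaSheaf.idealSect_injective ID U.1 ?_⟩
        show OmegaSh.idealSect ID U.1 (r • l) = _
        rw [Groth.OmegaSheaf.idealSect_smul, hl]
        exact hr
    have hι : ι₀.app U.1 l = x • oneSec X U.1 := by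
      refine (eq_toFun_smul_oneSec _).trans ?_
      rw [← hl]
      rfl
    obtain ⟨g, hg, hgx⟩ := exists_pow_gen ι₀ U.2 l hlb x hι q
    have hψ : ∀ z, ψ.app U.1 (tmulSec z g) = x ^ q • (C.K.iCycles q).app U.1 z := fun z => by
      rw [comp_app_apply, mulPow_app ι₀ _ q U.1 z g _ hgx, Scheme.Modules.Hom.app_smul]
    have hxq : ∀ p, IsSMulRegular Γ(C.K.X p, U.1) (x ^ q) := fun p => (regular_term IY hY C p U hx).pow q
    have hc := chain_app IY ID hY C C' hφ U hx hID
    refine ⟨g, hg, hψ, fun a b h => ?_, ?_, fun a => ?_, fun z => ?_⟩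
    · obtain ⟨z, rfl⟩ := (tmul_bijective (M := C.K.cycles q) U.2 g hg).2 a
      obtain ⟨w, rfl⟩ := (tmul_bijective (M := C.K.cycles q) U.2 g hg).2 b
      rw [hψ, hψ] at h
      rw [Groth.QCohMod.app_injective_of_mono (C.K.iCycles q) U.1 (hxq q h)]
    · exact fun a b h => Groth.QCohMod.app_injective_of_mono (C'.K.iCycles q) U.1 ((hc q).1 h)
    · obtain ⟨b, hb⟩ := (hc q).2.1 ((C'.K.iCycles q).app U.1 a)
      obtain ⟨z, hz⟩ := exists_cycle C.K q U.1 b (hxq _ (show x ^ q • _ = x ^ q • (0 : Γ(C.K.X _, U.1)) by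
        rw [← Scheme.Modules.Hom.app_smul, ← hb, ← comp_app_apply, φ.comm, comp_app_apply, ← comp_app_apply (C'.K.iCycles q),
          C'.K.iCycles_d, smul_zero]
        exact map_zero _))
      exact ⟨z, by rw [comp_app_apply, hb, hz]⟩
    · obtain ⟨a', ha'⟩ := (hc q).2.2 ((C.K.iCycles q).app U.1 z)
      obtain ⟨a, ha⟩ := exists_cycle C'.K q U.1 a' ((hc _).1 (by
        rw [map_zero, ← comp_app_apply, ← φ.comm, comp_app_apply, ha', Scheme.Modules.Hom.app_smul,
          ← comp_app_apply (C.K.iCycles q), C.K.iCycles_d]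
        exact smul_zero _))
      exact ⟨a, by rw [comp_app_apply, ha, ha']⟩
  haveI hψm : Mono ψ := Groth.OmegaSheaf.mono_of_affine_cover ψ fun p => by
    obtain ⟨U, x, hp, -, hx, hID⟩ := cover p ⊤ trivial
    obtain ⟨g, -, -, h, -⟩ := loc U x hx hID
    exact ⟨U.1, U.2, hp, h⟩
  have hfac : ψ' ≫ cokernel.π ψ = 0 := by
    refine hom_eq_zero_of_small _ fun p W hp => ?_
    obtain ⟨U, x, hpU, hUW, hx, hID⟩ := cover p W hp
    obtain ⟨g, -, hψ, -, -, h1, -⟩ := loc U x hx hID
    refine ⟨U.1, hpU, hUW, fun a => ?_⟩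
    obtain ⟨z, hz⟩ := h1 a
    rw [comp_app_apply, hz, ← hψ, ← comp_app_apply, cokernel.condition]
    rfl
  let e := Abelian.monoLift ψ ψ' hfac
  have he : e ≫ ψ = ψ' := Abelian.monoLift_comp ψ ψ' hfac
  haveI : IsIso e := Groth.OmegaSheaf.isIso_of_affine_cover e fun p => by
    obtain ⟨U, x, hpU, -, hx, hID⟩ := cover p ⊤ trivial
    obtain ⟨g, hg, hψ, hi, hi', -, h2⟩ := loc U x hx hID
    refine ⟨U.1, U.2, hpU, fun a b h => hi' ?_, fun t => ?_⟩
    · rw [← he]
      rw [comp_app_apply e ψ, comp_app_apply e ψ, h]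
    · obtain ⟨z, rfl⟩ := (tmul_bijective (M := C.K.cycles q) U.2 g hg).2 t
      obtain ⟨a, ha⟩ := h2 z
      exact ⟨a, hi (by rw [← comp_app_apply, he, ha, hψ])⟩
  -- the map to the fibre product
  haveI hP : (Limits.pullback ((RD).map π) (unitD ID (C.K.homology q))).IsQuasicoherent :=
    Groth.QCohMod.isQCoh_pullback _ _
  haveI := Groth.QCohMod.isQCoh_tensorMod (M := Limits.pullback ((RD).map π) (unitD ID (C.K.homology q)))
    (N := CohB1.tensorPow (ClSub.idealMod ID) q)
  let γ := e ≫ KoszTw.tensorMap α (𝟙 (CohB1.tensorPow (ClSub.idealMod ID) q))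
  have hγ : ∀ (U : X.affineOpens) (g : Γ(CohB1.tensorPow (ClSub.idealMod ID) q, U.1)) a z,
      e.app U.1 a = tmulSec z g → γ.app U.1 a = tmulSec (α.app U.1 z) g := fun U g a z h => by
    rw [comp_app_apply, h, tensorMap_app_tmulSec, id_app_apply]
  have αker : ∀ (U : X.affineOpens) (x : Γ(X, U.1)), x ∈ nonZeroDivisors Γ(X, U.1) → ID.ideal U = Ideal.span {x} →
      Function.Surjective (α.app U.1) ∧ ∀ z, α.app U.1 z = 0 ↔
        ∃ w, (C.K.iCycles q).app U.1 z = x • (C.K.d (q + 1) q).app U.1 w := by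
    intro U x hx hID
    obtain ⟨hs, hk⟩ := unit_RD ID (C.K.cycles q) U x hID
    obtain ⟨-, hkH⟩ := unit_RD ID (C.K.homology q) U x hID
    have hπ : Function.Surjective (π.app U.1) := Groth.QCohMod.app_surjective_of_epi π U.2
    refine ⟨fun t => ?_, fun z => ⟨fun h => ?_, ?_⟩⟩
    · obtain ⟨z, hz⟩ := hs ((pullback.fst ((RD).map π) (unitD ID (C.K.homology q))).app U.1 t)
      have hcond : (unitD ID (C.K.homology q)).app U.1 (π.app U.1 z - (pullback.snd ((RD).map π) (unitD ID (C.K.homology q))).app U.1 t) = 0 := by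
        rw [map_sub, sub_eq_zero, ← comp_app_apply π, ← comp_app_apply (pullback.snd _ _), ← pullback.condition]
        rw [comp_app_apply (pullback.fst _ _), ← hz, ← comp_app_apply]
        exact congr(($(unitD_naturality ID π)).app U.1 z).symm
      obtain ⟨h', hh'⟩ := (hkH _).1 hcond
      obtain ⟨z', rfl⟩ := hπ h'
      refine ⟨z - x • z', pullback_sec_ext _ _ U.1 _ _ ?_ ?_⟩
      · rw [← comp_app_apply, hα₁, map_sub, hz, (hk _).2 ⟨z', rfl⟩, sub_zero]
      · rw [← comp_app_apply, hα₂, map_sub, Scheme.Modules.Hom.app_smul, ← hh', sub_sub_cancel]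
    · have h1 : (unitD ID (C.K.cycles q)).app U.1 z = 0 := by rw [← hα₁, comp_app_apply, h, map_zero]
      obtain ⟨z', rfl⟩ := (hk z).1 h1
      have h2 : π.app U.1 (x • z') = 0 := by rw [← hα₂, comp_app_apply, h, map_zero]
      rw [Scheme.Modules.Hom.app_smul] at h2
      have h3 : π.app U.1 z' = 0 := hreg U x hx hID (h2.trans (smul_zero x).symm)
      obtain ⟨w, hw⟩ := Groth.QCohMod.exists_app_eq_of_exact
        (S := ShortComplex.mk (C.K.toCycles (q + 1) q) π (C.K.toCycles_comp_homologyπ _ _))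
        (toCycles_exact C.K q) U.2 z' h3
      refine ⟨w, ?_⟩
      rw [Scheme.Modules.Hom.app_smul, ← hw, ← C.K.toCycles_i (q + 1) q, comp_app_apply]
    · rintro ⟨w, hw⟩
      obtain rfl : z = x • (C.K.toCycles (q + 1) q).app U.1 w := Groth.QCohMod.app_injective_of_mono (C.K.iCycles q) U.1 (by
        rw [hw, Scheme.Modules.Hom.app_smul, ← C.K.toCycles_i (q + 1) q, comp_app_apply])
      refine pullback_sec_ext _ _ U.1 _ _ ?_ ?_
      · rw [map_zero, ← comp_app_apply, hα₁]
        exact (hk _).2 ⟨_, rfl⟩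
      · rw [map_zero, ← comp_app_apply, hα₂, Scheme.Modules.Hom.app_smul, ← comp_app_apply,
          C.K.toCycles_comp_homologyπ]
        exact smul_zero x
  have key : ∀ p : X, ∃ U : X.Opens, IsAffineOpen U ∧ p ∈ U ∧ Function.Surjective (γ.app U) ∧
      (∀ w, γ.app U ((C'.K.toCycles (q + 1) q).app U w) = 0) ∧
      ∀ a, γ.app U a = 0 → ∃ w, (C'.K.toCycles (q + 1) q).app U w = a := by
    intro p
    obtain ⟨U, x, hpU, -, hx, hID⟩ := cover p ⊤ trivial
    obtain ⟨g, hg, hψ, hi, hi', -, h2⟩ := loc U x hx hID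
    obtain ⟨hαs, hαk⟩ := αker U x hx hID
    have hc := chain_app IY ID hY C C' hφ U hx hID
    have hxq : IsSMulRegular Γ(C.K.X q, U.1) (x ^ q) := (regular_term IY hY C q U hx).pow q
    have hd : ∀ w, ψ'.app U.1 ((C'.K.toCycles (q + 1) q).app U.1 w) =
        (C.K.d (q + 1) q).app U.1 ((φ.f (q + 1)).app U.1 w) := fun w => by
      have hh : C'.K.toCycles (q + 1) q ≫ ψ' = φ.f (q + 1) ≫ C.K.d (q + 1) q := by
        show C'.K.toCycles (q + 1) q ≫ C'.K.iCycles q ≫ φ.f q = _
        rw [C'.K.toCycles_i_assoc, φ.comm]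
      rw [← comp_app_apply, ← comp_app_apply, hh]
    have hez : ∀ a z, e.app U.1 a = tmulSec z g → ψ'.app U.1 a = x ^ q • (C.K.iCycles q).app U.1 z := fun a z h => by
      rw [← he, comp_app_apply, h, hψ]
    refine ⟨U.1, U.2, hpU, fun t => ?_, fun w => ?_, fun a ha => ?_⟩
    · obtain ⟨t, rfl⟩ := (tmul_bijective U.2 g hg).2 t
      obtain ⟨z, rfl⟩ := hαs t
      obtain ⟨a, ha⟩ := h2 z
      exact ⟨a, hγ U g a z (hi (by rw [← comp_app_apply, he, ha, hψ]))⟩
    · obtain ⟨z, hz⟩ := (tmul_bijective (M := C.K.cycles q) U.2 g hg).2 (e.app U.1 ((C'.K.toCycles (q + 1) q).app U.1 w))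
      rw [hγ U g _ z hz.symm]
      obtain ⟨b, hb⟩ := (hc (q + 1)).2.1 w
      have := (hez _ z hz.symm).symm.trans (hd w)
      rw [hb, Scheme.Modules.Hom.app_smul, pow_succ, mul_smul] at this
      rw [(hαk z).2 ⟨b, hxq this⟩, tmulSec_zero_left]
    · obtain ⟨z, hz⟩ := (tmul_bijective (M := C.K.cycles q) U.2 g hg).2 (e.app U.1 a)
      rw [hγ U g a z hz.symm] at ha
      obtain ⟨b, hb⟩ := (hαk z).1 ((tmul_bijective U.2 g hg).1 (ha.trans (tmulSec_zero_left g).symm))
      obtain ⟨w, hw⟩ := (hc (q + 1)).2.2 b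
      refine ⟨w, hi' ?_⟩
      rw [hd, hw, hez a z hz.symm, hb, Scheme.Modules.Hom.app_smul, pow_succ, mul_smul]
  have h0 : C'.K.toCycles (q + 1) q ≫ γ = 0 := by
    refine hom_eq_zero_of_small _ fun p W hp => ?_
    obtain ⟨U, x, hpU, hUW, hx, hID⟩ := cover p W hp
    obtain ⟨g, hg, hψ, hi, hi', -, -⟩ := loc U x hx hID
    obtain ⟨-, hαk⟩ := αker U x hx hID
    refine ⟨U.1, hpU, hUW, fun w => ?_⟩
    obtain ⟨z, hz⟩ := (tmul_bijective (M := C.K.cycles q) U.2 g hg).2 (e.app U.1 ((C'.K.toCycles (q + 1) q).app U.1 w))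
    rw [comp_app_apply, hγ U g _ z hz.symm]
    obtain ⟨b, hb⟩ := (chain_app IY ID hY C C' hφ U hx hID (q + 1)).2.1 w
    have h5 : ψ'.app U.1 ((C'.K.toCycles (q + 1) q).app U.1 w) = x ^ q • (C.K.iCycles q).app U.1 z := by
      rw [← he, comp_app_apply, ← hz, hψ]
    rw [comp_app_apply, ← comp_app_apply (C'.K.toCycles (q + 1) q), C'.K.toCycles_i, ← comp_app_apply, ← φ.comm,
      comp_app_apply, hb, Scheme.Modules.Hom.app_smul, pow_succ, mul_smul] at h5
    rw [(hαk z).2 ⟨b, (regular_term IY hY C q U hx).pow q h5.symm⟩, tmulSec_zero_left]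
  have hex : (ShortComplex.mk (C'.K.toCycles (q + 1) q) γ h0).Exact := by
    refine Groth.OmegaSheaf.exact_of_affine_cover _ fun p => ?_
    obtain ⟨U, hU, hp, -, -, h⟩ := key p
    exact ⟨U, hU, hp, h⟩
  haveI hepi : Epi γ := Groth.OmegaSheaf.epi_of_affine_cover γ fun p => by
    obtain ⟨U, hU, hp, h, -⟩ := key p
    exact ⟨U, hU, hp, h⟩
  haveI : Epi (ShortComplex.mk (C'.K.toCycles (q + 1) q) γ h0).g := hepi
  exact ⟨(C'.K.homologyIsCokernel (q + 1) q (by simp)).coconePointUniqueUpToIso hex.gIsCokernel⟩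

end Main

end Groth.KoszShLib
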