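import Mathlib
import Groth.Agent.KoszShLib.Algebra

/-! An element regular on `R ⧸ J` is regular on the Koszul homology of a family generating `J`, when `J` is
generated by a weakly regular sequence. -/

set_option autoImplicit false

universe u

noncomputable section

namespace Groth.KoszShLib

open ExteriorAlgebra

variable {R : Type u} [CommRing R] {M N : Type u} [AddCommGroup M] [Module R M] [AddCommGroup N] [Module R N]

/-- `x` is regular on the Koszul homology of `φ`. -/
def HReg (φ : M →ₗ[R] R) (x : R) : Prop :=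
  ∀ (q : ℕ) (z w : ExteriorAlgebra R M), z ∈ ⋀[R]^q M → w ∈ ⋀[R]^(q + 1) M → dd φ z = 0 → dd φ w = x • z →
    ∃ y ∈ ⋀[R]^(q + 1) M, dd φ y = z

theorem dd_map (f : M →ₗ[R] N) (φ : N →ₗ[R] R) (z : ExteriorAlgebra R M) :
    dd φ (ExteriorAlgebra.map f z) = ExteriorAlgebra.map f (dd (φ ∘ₗ f) z) := by
  induction z using CliffordAlgebra.left_induction with
  | algebraMap r => simp only [AlgHom.commutes, dd_algebraMap, map_zero]
  | add a b ha hb => simp only [map_add, ha, hb]
  | ι_mul a m ha =>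
    show dd φ (ExteriorAlgebra.map f (ι R m * a)) = ExteriorAlgebra.map f (dd (φ ∘ₗ f) (ι R m * a))
    rw [map_mul, ExteriorAlgebra.map_apply_ι, dd_ι_mul, dd_ι_mul, ha, map_sub, map_smul, map_mul,
      ExteriorAlgebra.map_apply_ι]
    rfl

theorem map_mem (f : M →ₗ[R] N) (q : ℕ) {z : ExteriorAlgebra R M} (hz : z ∈ ⋀[R]^q M) :
    ExteriorAlgebra.map f z ∈ ⋀[R]^q N := by
  have h : Submodule.map (ExteriorAlgebra.map f).toLinearMap (LinearMap.range (ι R (M := M))) ≤
      LinearMap.range (ι R (M := N)) := by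
    rintro _ ⟨_, ⟨m, rfl⟩, rfl⟩
    exact ⟨f m, (ExteriorAlgebra.map_apply_ι f m).symm⟩
  have h' : Submodule.map (ExteriorAlgebra.map f).toLinearMap (LinearMap.range (ι R (M := M)) ^ q) ≤
      LinearMap.range (ι R (M := N)) ^ q := by
    rw [Submodule.map_pow]
    exact pow_le_pow_left' h q
  exact h' ⟨z, hz, rfl⟩

theorem dd_degree (φ : M →ₗ[R] R) (q : ℕ) {z : ExteriorAlgebra R M} (hz : z ∈ ⋀[R]^(q + 1) M) :
    dd φ z ∈ ⋀[R]^q M :=
  dd_mem φ (fun v (hv : v ∈ LinearMap.range (ι R (M := M))) => (LinearMap.mem_range.1 hv).imp fun m hm => hm.symm) q z hz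

theorem dd_deg_zero (φ : M →ₗ[R] R) {z : ExteriorAlgebra R M} (hz : z ∈ ⋀[R]^0 M) : dd φ z = 0 := by
  rw [show (⋀[R]^0 M) = (1 : Submodule R (ExteriorAlgebra R M)) from pow_zero _] at hz
  obtain ⟨r, rfl⟩ := Submodule.mem_one.1 hz
  exact dd_algebraMap φ r

theorem dd_anticomm (φ δ : M →ₗ[R] R) (z : ExteriorAlgebra R M) : dd φ (dd δ z) = -dd δ (dd φ z) :=
  CliffordAlgebra.contractLeft_comm φ δ z

/-- retracts -/
theorem HReg.retract {φ : M →ₗ[R] R} {ψ : N →ₗ[R] R} {x : R} (h : HReg ψ x) (s : M →ₗ[R] N) (r : N →ₗ[R] M)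
    (hs : ψ ∘ₗ s = φ) (hr : φ ∘ₗ r = ψ) (hrs : r ∘ₗ s = LinearMap.id) : HReg φ x := by
  intro q z w hz hw hdz hdw
  obtain ⟨y, hy, hdy⟩ := h q (ExteriorAlgebra.map s z) (ExteriorAlgebra.map s w) (map_mem s q hz) (map_mem s _ hw)
    (by rw [dd_map, hs, hdz, map_zero]) (by rw [dd_map, hs, hdw, map_smul])
  refine ⟨ExteriorAlgebra.map r y, map_mem r _ hy, ?_⟩
  rw [dd_map, hr, hdy, ← AlgHom.comp_apply, ExteriorAlgebra.map_comp_map, hrs, ExteriorAlgebra.map_id]
  rfl

theorem prod_decomp (z : ExteriorAlgebra R (M × R)) :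
    z = ExteriorAlgebra.map (LinearMap.inl R M R) (ExteriorAlgebra.map (LinearMap.fst R M R) z) +
      ι R ((0 : M), (1 : R)) *
        ExteriorAlgebra.map (LinearMap.inl R M R) (ExteriorAlgebra.map (LinearMap.fst R M R) (dd (LinearMap.snd R M R) z)) := by
  induction z using CliffordAlgebra.left_induction with
  | algebraMap r => simp [dd_algebraMap]
  | add a b ha hb =>
    simp only [map_add, mul_add]
    conv_lhs => rw [ha, hb]
    abel
  | ι_mul a m ha =>
    set i := ExteriorAlgebra.map (LinearMap.inl R M R)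
    set p := ExteriorAlgebra.map (LinearMap.fst R M R)
    set e : ExteriorAlgebra R (M × R) := ι R ((0 : M), (1 : R))
    show ι R m * a = i (p (ι R m * a)) + e * i (p (dd (LinearMap.snd R M R) (ι R m * a)))
    have hm : ι R m = i (p (ι R m)) + m.2 • e := by
      simp only [i, p, e, ExteriorAlgebra.map_apply_ι, ← map_smul, ← map_add]
      congr 1
      ext <;> simp
    have hsw : i (p (ι R m)) * e = -(e * i (p (ι R m))) := by
      simp only [i, p, e, ExteriorAlgebra.map_apply_ι]
      exact eq_neg_of_add_eq_zero_left (ExteriorAlgebra.ι_add_mul_swap _ _)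
    have hee : e * e = 0 := ExteriorAlgebra.ι_sq_zero _
    rw [dd_ι_mul, LinearMap.snd_apply, map_sub, map_smul, map_mul p, map_sub, map_smul, map_mul i, map_mul p, map_mul i]
    nth_rw 1 [hm]
    conv_lhs => rw [ha]
    rw [add_mul, mul_add, mul_add, smul_mul_assoc, smul_mul_assoc, ← mul_assoc (i (p (ι R m))) e, hsw,
      ← mul_assoc e e, hee, zero_mul, smul_zero, add_zero, mul_sub, mul_smul_comm, neg_mul, mul_assoc]
    abel

/-- adding a variable killed by the form -/
theorem HReg.prod {φ : M →ₗ[R] R} {x : R} (h : HReg φ x) : HReg (φ ∘ₗ LinearMap.fst R M R) x := by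
  intro q z w hz hw hdz hdw
  set i := ExteriorAlgebra.map (LinearMap.inl R M R)
  set p := ExteriorAlgebra.map (LinearMap.fst R M R)
  set δ := LinearMap.snd R M R
  set φ' := φ ∘ₗ LinearMap.fst R M R
  have hp : ∀ t, dd φ (p t) = p (dd φ' t) := fun t => dd_map _ _ t
  obtain ⟨y₀, hy₀, hd₀⟩ := h q (p z) (p w) (map_mem _ _ hz) (map_mem _ _ hw) (by rw [hp, hdz, map_zero])
    (by rw [hp, hdw, map_smul])
  obtain ⟨y₁, hy₁, hd₁⟩ : ∃ y ∈ ⋀[R]^q M, dd φ y = p (dd δ z) := by
    rcases q with _ | q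
    · exact ⟨0, zero_mem _, by rw [dd_deg_zero δ hz, map_zero, map_zero]⟩
    · exact h q (p (dd δ z)) (-p (dd δ w)) (map_mem _ _ (dd_degree δ q hz)) (neg_mem (map_mem _ _ (dd_degree δ _ hw)))
        (by rw [hp, dd_anticomm, hdz, map_zero, neg_zero, map_zero])
        (by rw [map_neg, hp, dd_anticomm, map_neg, neg_neg, hdw, map_smul, map_smul])
  refine ⟨i y₀ - ι R ((0 : M), (1 : R)) * i y₁, sub_mem (map_mem _ _ hy₀) ?_, ?_⟩
  · rw [show (⋀[R]^(q + 1) (M × R)) = LinearMap.range (ι R (M := M × R)) * ⋀[R]^q (M × R) from pow_succ' _ q]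
    exact Submodule.mul_mem_mul ⟨_, rfl⟩ (map_mem _ _ hy₁)
  · have hi : φ' ∘ₗ LinearMap.inl R M R = φ := by ext m; simp [φ']
    rw [map_sub, dd_ι_mul, dd_map, dd_map, hi, hd₀, hd₁,
      show φ' ((0 : M), (1 : R)) = 0 by simp [φ'], zero_smul, zero_sub, sub_neg_eq_add]
    exact (prod_decomp z).symm

/-- the base case -/
theorem hreg_base {c : ℕ} (g : Fin c → R) (hg : RingTheory.Sequence.IsWeaklyRegular R (List.ofFn g)) (x : R)
    (hx : ∀ r, x * r ∈ Ideal.span (Set.range g) → r ∈ Ideal.span (Set.range g)) :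
    HReg (Fintype.linearCombination R g) x := by
  classical
  intro q z w hz hw hdz hdw
  rcases q with _ | q
  · rw [show (⋀[R]^0 (Fin c → R)) = (1 : Submodule R _) from pow_zero _] at hz
    obtain ⟨r, rfl⟩ := Submodule.mem_one.1 hz
    rw [show (⋀[R]^(0 + 1) (Fin c → R)) = LinearMap.range (ι R (M := Fin c → R)) from pow_one _] at hw ⊢
    obtain ⟨v, rfl⟩ := hw
    rw [dd_ι] at hdw
    have h1 : Fintype.linearCombination R g v = x * r := by
      refine (ExteriorAlgebra.algebraMap_inj (Fin c → R) _ _).1 ?_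
      rw [hdw, map_mul, Algebra.smul_def]
    have h2 : r ∈ Ideal.span (Set.range g) := hx r (by
      rw [← h1, Ideal.span, ← Fintype.range_linearCombination]; exact LinearMap.mem_range_self _ v)
    rw [Ideal.span, ← Fintype.range_linearCombination] at h2
    obtain ⟨u, hu⟩ := h2
    exact ⟨ι R u, ⟨u, rfl⟩, by rw [dd_ι, hu]⟩
  · obtain ⟨y, hy⟩ := dd_exact (Fintype.linearCombination R g) (Pi.basisFun R (Fin c)) (by
      convert hg using 2
      funext k
      simp [Fintype.linearCombination_apply, Pi.single_apply]) q ⟨z, hz⟩ hdz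
    exact ⟨y.1, y.2, hy⟩

theorem hreg_main [Module.Finite R M] [Module.Projective R M] (φ : M →ₗ[R] R) {c : ℕ} (g : Fin c → R)
    (hg : RingTheory.Sequence.IsWeaklyRegular R (List.ofFn g)) (hφ : LinearMap.range φ = Ideal.span (Set.range g)) (x : R)
    (hx : ∀ r, x * r ∈ Ideal.span (Set.range g) → r ∈ Ideal.span (Set.range g)) : HReg φ x := by
  classical
  obtain ⟨n, π, hπ⟩ := Module.Finite.exists_fin' R M
  obtain ⟨σ, hσ⟩ := Module.projective_lifting_property π LinearMap.id hπ
  suffices h : HReg (φ ∘ₗ π) x from h.retract σ π (by rw [LinearMap.comp_assoc, hσ, LinearMap.comp_id]) rfl hσ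
  let ψ := Fintype.linearCombination R g
  have hψ : LinearMap.range ψ = Ideal.span (Set.range g) := Fintype.range_linearCombination R g
  -- the form `ψ ∘ snd` on `R^n × R^c`
  have key : ∀ k : ℕ, HReg (ψ ∘ₗ LinearMap.snd R (Fin k → R) (Fin c → R)) x := by
    intro k
    induction k with
    | zero =>
      refine (hreg_base g hg x hx).retract (LinearMap.snd R _ _) (LinearMap.inr R _ _) rfl ?_ ?_
      · ext <;> simp [ψ]
      · exact LinearMap.ext fun t => Prod.ext (funext fun i => i.elim0) rfl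
    | succ k ih =>
      let sm : ((Fin (k + 1) → R) × (Fin c → R)) →ₗ[R] ((Fin k → R) × (Fin c → R)) × R :=
        LinearMap.prod (LinearMap.prodMap (LinearMap.funLeft R R Fin.succ) LinearMap.id)
          ((LinearMap.proj (0 : Fin (k + 1))).comp (LinearMap.fst R (Fin (k + 1) → R) (Fin c → R)))
      let rm : (((Fin k → R) × (Fin c → R)) × R) →ₗ[R] (Fin (k + 1) → R) × (Fin c → R) :=
        LinearMap.mk (AddHom.mk (fun t => (Fin.cons t.2 t.1.1, t.1.2)) fun a b => by
          refine Prod.ext (funext fun i => ?_) rfl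
          induction i using Fin.cases <;> simp) fun r a => by
          refine Prod.ext (funext fun i => ?_) rfl
          induction i using Fin.cases <;> simp
      refine ih.prod.retract sm rm rfl rfl (LinearMap.ext fun t => Prod.ext (funext fun i => ?_) rfl)
      induction i using Fin.cases <;> rfl
  -- the retraction
  have hα : ∀ m, ∃ p, ψ p = φ (π m) := fun m => by
    have : φ (π m) ∈ LinearMap.range ψ := by rw [hψ, ← hφ]; exact LinearMap.mem_range_self _ _
    exact this
  have hβ : ∀ p, ∃ m, φ (π m) = ψ p := fun p => by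
    have : ψ p ∈ LinearMap.range φ := by rw [hφ, ← hψ]; exact LinearMap.mem_range_self _ _
    obtain ⟨m, hm⟩ := this
    obtain ⟨v, rfl⟩ := hπ m
    exact ⟨v, hm⟩
  choose a ha using hα
  choose b hb using hβ
  let α : (Fin n → R) →ₗ[R] (Fin c → R) := (Pi.basisFun R (Fin n)).constr R fun i => a (Pi.basisFun R (Fin n) i)
  let β : (Fin c → R) →ₗ[R] (Fin n → R) := (Pi.basisFun R (Fin c)).constr R fun i => b (Pi.basisFun R (Fin c) i)
  have hα' : ψ ∘ₗ α = φ ∘ₗ π := (Pi.basisFun R (Fin n)).ext fun i => by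
    rw [LinearMap.comp_apply, LinearMap.comp_apply, Module.Basis.constr_basis, ha]
  have hβ' : (φ ∘ₗ π) ∘ₗ β = ψ := (Pi.basisFun R (Fin c)).ext fun i => by
    rw [LinearMap.comp_apply, LinearMap.comp_apply, Module.Basis.constr_basis, hb]
  refine (key n).retract (LinearMap.prod LinearMap.id α) (LinearMap.coprod (LinearMap.id - β ∘ₗ α) β) ?_ ?_ ?_
  · rw [LinearMap.comp_assoc, LinearMap.snd_prod, hα']
  · refine LinearMap.prod_ext ?_ ?_
    · rw [LinearMap.comp_assoc, LinearMap.coprod_inl, LinearMap.comp_sub, LinearMap.comp_id, ← LinearMap.comp_assoc, hβ', hα', sub_self]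
      ext v; simp
    · rw [LinearMap.comp_assoc, LinearMap.coprod_inr, hβ']
      ext v; simp
  · rw [LinearMap.coprod_comp_prod, LinearMap.comp_id, sub_add_cancel]

end Groth.KoszShLib
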