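import Mathlib
import Groth.Agent.KoszShLib.TwistDiv
import Groth.Agent.KoszShLib.RegularQuot

/-! Koszul complexes of `n` copies of one effective Cartier divisor. -/

set_option autoImplicit false
set_option backward.isDefEq.respectTransparency false

universe u

open CategoryTheory CategoryTheory.Limits AlgebraicGeometry TopologicalSpace Opposite

noncomputable section

namespace Groth.KoszShLib

open Groth.PicAux Groth.LocFree
open Groth.QCohMod (appₗ)

section Algebra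

variable {R : Type u} [CommRing R] {M N : Type u} [AddCommGroup M] [Module R M] [AddCommGroup N] [Module R N]

open ExteriorAlgebra

/-- the decomposition along a split exact sequence `N → M → R` -/
theorem split_decomp (δ : N →ₗ[R] M) (σ : M →ₗ[R] R) (p : M →ₗ[R] N) (e0 : M) (hσδ : σ ∘ₗ δ = 0)
    (hdec : ∀ m, δ (p m) + σ m • e0 = m) (z : ExteriorAlgebra R M) :
    z = ExteriorAlgebra.map δ (ExteriorAlgebra.map p z) +
      ι R e0 * ExteriorAlgebra.map δ (ExteriorAlgebra.map p (dd σ z)) := by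
  let E : N × R →ₗ[R] M := LinearMap.coprod δ (LinearMap.toSpanSingleton R M e0)
  let E' : M →ₗ[R] N × R := LinearMap.prod p σ
  have hEE : E ∘ₗ E' = LinearMap.id := LinearMap.ext fun m => by simpa [E, E'] using hdec m
  have h := congrArg (ExteriorAlgebra.map E) (prod_decomp (ExteriorAlgebra.map E' z))
  rw [← AlgHom.comp_apply, ExteriorAlgebra.map_comp_map, hEE, ExteriorAlgebra.map_id, AlgHom.id_apply, map_add, map_mul] at h
  have hfst : LinearMap.fst R N R ∘ₗ E' = p := rfl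
  have hsnd : LinearMap.snd R N R ∘ₗ E' = σ := rfl
  have hinl : E ∘ₗ LinearMap.inl R N R = δ := by ext m; simp [E]
  have he : E ((0 : N), (1 : R)) = e0 := by simp [E]
  rw [dd_map, hsnd, ExteriorAlgebra.map_apply_ι, he] at h
  simp only [← AlgHom.comp_apply, ExteriorAlgebra.map_comp_map, hfst, ← LinearMap.comp_assoc, hinl] at h
  simp only [← AlgHom.comp_apply, ExteriorAlgebra.map_comp_map]
  exact h

theorem dd_map_zero (δ : N →ₗ[R] M) (σ : M →ₗ[R] R) (h : σ ∘ₗ δ = 0) (z : ExteriorAlgebra R N) :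
    dd σ (ExteriorAlgebra.map δ z) = 0 := by
  rw [dd_map, h]
  show ExteriorAlgebra.map δ (CliffordAlgebra.contractLeft (0 : N →ₗ[R] R) z) = 0
  simp

theorem coe_map (f : M →ₗ[R] N) (q : ℕ) (z : ↥(⋀[R]^q M)) :
    (exteriorPower.map q f z : ExteriorAlgebra R N) = ExteriorAlgebra.map f (z : ExteriorAlgebra R M) := by
  have h : (⋀[R]^q N).subtype ∘ₗ exteriorPower.map q f = (ExteriorAlgebra.map f).toLinearMap ∘ₗ (⋀[R]^q M).subtype := by
    refine exteriorPower.linearMap_ext (AlternatingMap.ext fun e => ?_)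
    simp only [LinearMap.compAlternatingMap_apply, LinearMap.comp_apply, exteriorPower.map_apply_ιMulti,
      Submodule.subtype_apply, exteriorPower.ιMulti_apply_coe, AlgHom.toLinearMap_apply,
      ExteriorAlgebra.map_apply_ιMulti]
  exact congr($h z)

end Algebra

variable {X : Scheme.{u}}

/-- the map induced on exterior powers -/
theorem exists_extMap {A B LA LB : X.Modules} (q : ℕ)
    (φA : ∀ U : X.affineOpens, Γ(LA, U.1) ≃ₗ[Γ(X, U.1)] ESec q A U.1)
    (hA : ∀ (U V : X.affineOpens) (h : V.1 ≤ U.1) (e : Fin q → Γ(A, U.1)),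
      res LA h ((φA U).symm (ewedge q A e)) = (φA V).symm (ewedge q A fun j => res A h (e j)))
    (φB : ∀ U : X.affineOpens, Γ(LB, U.1) ≃ₗ[Γ(X, U.1)] ESec q B U.1)
    (hB : ∀ (U V : X.affineOpens) (h : V.1 ≤ U.1) (e : Fin q → Γ(B, U.1)),
      res LB h ((φB U).symm (ewedge q B e)) = (φB V).symm (ewedge q B fun j => res B h (e j)))
    (f : A ⟶ B) : ∃ Φ : LA ⟶ LB, ∀ (U : X.affineOpens) (x : Γ(LA, U.1)),
      φB U (Φ.app U.1 x) = exteriorPower.map q (appₗ f U.1) (φA U x) := by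
  let g : ∀ (U : X.affineOpens), Γ(LA, U.1) →ₗ[Γ(X, U.1)] Γ(LB, U.1) := fun U =>
    (φB U).symm.toLinearMap ∘ₗ exteriorPower.map q (appₗ f U.1) ∘ₗ (φA U).toLinearMap
  have hg : ∀ U (e : Fin q → Γ(A, U.1)), g U ((φA U).symm (ewedge q A e)) =
      (φB U).symm (ewedge q B fun j => f.app U.1 (e j)) := fun U e => by
    simp only [g, LinearMap.comp_apply, LinearEquiv.coe_coe, LinearEquiv.apply_symm_apply, ewedge,
      exteriorPower.map_apply_ιMulti]
    rfl
  obtain ⟨Φ, hΦ⟩ : ∃ Φ : LA ⟶ LB, ∀ U (hU : IsAffineOpen U) x, Φ.app U x = g ⟨U, hU⟩ x := by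
    refine exists_hom_of_affine (fun U hU => g ⟨U, hU⟩) fun U V hU hV h x => ?_
    obtain ⟨a, rfl⟩ := (φA ⟨U, hU⟩).symm.surjective x
    induction a using esec_induction with
    | wedge e =>
      rw [hg, hA ⟨U, hU⟩ ⟨V, hV⟩ h e, hg]
      refine (hB ⟨U, hU⟩ ⟨V, hV⟩ h _).trans ?_
      congr 2
      funext j
      exact (app_res f h (e j)).symm
    | zero => simp only [map_zero, res_zero]
    | add a b ha hb => simp only [map_add, res_add, ha, hb]
    | smul r a ha => simp only [map_smul, res_smul, ha]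
  refine ⟨Φ, fun U x => ?_⟩
  rw [hΦ U.1 U.2 x]
  exact (φB U).apply_symm_apply _

theorem nonempty_iso_of_mono {A B P : X.Modules} (a : A ⟶ P) (b : B ⟶ P) [Mono b] [A.IsQuasicoherent] [B.IsQuasicoherent]
    (h : ∀ (p : X) (W : X.Opens), p ∈ W → ∃ V : X.Opens, IsAffineOpen V ∧ p ∈ V ∧ V ≤ W ∧
      Function.Injective (a.app V) ∧ (∀ s, ∃ t, b.app V t = a.app V s) ∧ ∀ t, ∃ s, a.app V s = b.app V t) :
    ∃ e : A ≅ B, e.hom ≫ b = a := by
  have hz : a ≫ cokernel.π b = 0 := by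
    refine hom_eq_zero_of_small _ fun p W hp => ?_
    obtain ⟨V, -, hpV, hVW, -, h1, -⟩ := h p W hp
    refine ⟨V, hpV, hVW, fun s => ?_⟩
    obtain ⟨t, ht⟩ := h1 s
    rw [comp_app_apply, ← ht, ← comp_app_apply, cokernel.condition]
    rfl
  let e := Abelian.monoLift b a hz
  have he : e ≫ b = a := Abelian.monoLift_comp b a hz
  haveI : IsIso e := Groth.OmegaSheaf.isIso_of_affine_cover e fun p => by
    obtain ⟨V, hV, hpV, -, hi, -, h2⟩ := h p ⊤ trivial
    refine ⟨V, hV, hpV, fun x y hxy => hi ?_, fun t => ?_⟩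
    · rw [← he, comp_app_apply e b, comp_app_apply e b, hxy]
    · obtain ⟨s, hs⟩ := h2 t
      exact ⟨s, Groth.QCohMod.app_injective_of_mono b V (by rw [← comp_app_apply, he, hs])⟩
  exact ⟨asIso e, he⟩

theorem nonempty_iso_of_epi {A B C : X.Modules} (a : A ⟶ B) (b : A ⟶ C) [Epi a] [A.IsQuasicoherent]
    [B.IsQuasicoherent] [C.IsQuasicoherent]
    (h : ∀ (p : X) (W : X.Opens), p ∈ W → ∃ V : X.Opens, IsAffineOpen V ∧ p ∈ V ∧ V ≤ W ∧
      Function.Surjective (b.app V) ∧ ∀ s, a.app V s = 0 ↔ b.app V s = 0) :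
    Nonempty (B ≅ C) := by
  have hz : kernel.ι a ≫ b = 0 := by
    refine hom_eq_zero_of_small _ fun p W hp => ?_
    obtain ⟨V, -, hpV, hVW, -, h1⟩ := h p W hp
    refine ⟨V, hpV, hVW, fun s => (h1 _).1 ?_⟩
    show a.app V ((kernel.ι a).app V s) = 0
    rw [← comp_app_apply, kernel.condition]
    rfl
  let e := Abelian.epiDesc a b hz
  have he : a ≫ e = b := Abelian.comp_epiDesc a b hz
  haveI : IsIso e := Groth.OmegaSheaf.isIso_of_affine_cover e fun p => by
    obtain ⟨V, hV, hpV, -, hs, h1⟩ := h p ⊤ trivial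
    refine ⟨V, hV, hpV, (injective_iff_map_eq_zero _).2 fun t ht => ?_, fun t => ?_⟩
    · obtain ⟨s, rfl⟩ := Groth.QCohMod.app_surjective_of_epi a hV t
      exact (h1 s).2 (by rw [← he, comp_app_apply]; exact ht)
    · obtain ⟨s, rfl⟩ := hs t
      exact ⟨a.app V s, by rw [← comp_app_apply, he]⟩
  exact ⟨asIso e⟩

variable {n : ℕ}

/-- the inclusion of `n` copies of `I` in the free module -/
def inFree (I : X.IdealSheafData) (n : ℕ) : (∐ fun _ : Fin n => ClSub.idealMod I) ⟶ FlatMod.freeMod X n :=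
  Limits.Sigma.map fun _ => ClSub.idealModι I

/-- the sum of the coordinates -/
def sumForm (X : Scheme.{u}) (n : ℕ) : FlatMod.freeMod X n ⟶ Coh.structureModule X :=
  Limits.Sigma.desc fun _ => 𝟙 _

theorem inFree_sum (I : X.IdealSheafData) (n : ℕ) :
    inFree I n ≫ sumForm X n = Limits.Sigma.desc fun _ : Fin n => ClSub.idealModι I := by
  refine Sigma.hom_ext _ _ fun i => ?_
  simp [inFree, sumForm]

theorem idealModι_app (I : X.IdealSheafData) (V : X.affineOpens) {y : Γ(X, V.1)} (hy : y ∈ nonZeroDivisors Γ(X, V.1))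
    (hI : I.ideal V = Ideal.span {y}) :
    ∃ l : Γ(ClSub.idealMod I, V.1), (Function.Bijective fun r : Γ(X, V.1) => r • l) ∧
      (ClSub.idealModι I).app V.1 l = y • oneSec X V.1 := by
  obtain ⟨l, hl⟩ := Groth.OmegaSheaf.exists_idealSect I V (hI ▸ Ideal.mem_span_singleton_self y)
  refine ⟨l, ⟨fun r s h => ?_, fun t => ?_⟩, ?_⟩
  · have h' := congrArg (OmegaSh.idealSect I V.1) h
    simp only [Groth.OmegaSheaf.idealSect_smul, hl] at h'
    exact (mul_cancel_right_mem_nonZeroDivisors hy).1 h'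
  · have ht := Groth.OmegaSheaf.idealSect_mem I V t
    rw [hI, Ideal.mem_span_singleton'] at ht
    obtain ⟨r, hr⟩ := ht
    refine ⟨r, Groth.OmegaSheaf.idealSect_injective I V.1 ?_⟩
    show OmegaSh.idealSect I V.1 (r • l) = _
    rw [Groth.OmegaSheaf.idealSect_smul, hl]
    exact hr
  · refine (eq_toFun_smul_oneSec _).trans ?_
    rw [← hl]
    rfl

theorem inFree_app (I : X.IdealSheafData) (n : ℕ) (V : X.affineOpens) {y : Γ(X, V.1)}
    (hy : y ∈ nonZeroDivisors Γ(X, V.1)) (hI : I.ideal V = Ideal.span {y}) :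
    Function.Injective ((inFree I n).app V.1) ∧ (∀ a, ∃ m, (inFree I n).app V.1 a = y • m) ∧
      ∀ m, ∃ a, (inFree I n).app V.1 a = y • m := by
  obtain ⟨l, hl, hly⟩ := idealModι_app I V hy hI
  have hO : ∀ t : Γ(Coh.structureModule X, V.1), ∃ r : Γ(X, V.1), t = r • oneSec X V.1 :=
    fun t => ⟨_, eq_toFun_smul_oneSec t⟩
  have hι : ∀ i b, (inFree I n).app V.1 ((Sigma.ι (fun _ : Fin n => ClSub.idealMod I) i).app V.1 b) =
      (Sigma.ι (fun _ : Fin n => Coh.structureModule X) i).app V.1 ((ClSub.idealModι I).app V.1 b) := fun i b => by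
    rw [← comp_app_apply, ← comp_app_apply]
    simp [inFree]
  have hπ : ∀ i, inFree I n ≫ proj (fun _ : Fin n => Coh.structureModule X) i =
      proj (fun _ : Fin n => ClSub.idealMod I) i ≫ ClSub.idealModι I := fun i => by
    refine Sigma.hom_ext _ _ fun j => ?_
    simp only [inFree, Limits.Sigma.ι_map_assoc]
    by_cases h : j = i
    · subst h
      rw [reassoc_of% (ι_proj (fun _ : Fin n => ClSub.idealMod I) j), ι_proj, Category.comp_id]
    · rw [reassoc_of% (ι_proj_ne (fun _ : Fin n => ClSub.idealMod I) h), ι_proj_ne _ h, comp_zero, zero_comp]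
  refine ⟨fun a b h => ?_, fun a => ?_, fun m => ?_⟩
  · rw [sum_decomp _ V.1 a, sum_decomp _ V.1 b]
    refine Finset.sum_congr rfl fun i _ => congrArg _ (Groth.OmegaSheaf.idealSect_injective I V.1 (congrArg (OmegaSh.fnSect X V.1) ?_))
    rw [← comp_app_apply, ← comp_app_apply, ← hπ, comp_app_apply, comp_app_apply, h]
  · choose r hr using fun i => hl.2 ((proj (fun _ : Fin n => ClSub.idealMod I) i).app V.1 a)
    refine ⟨∑ i, (Sigma.ι (fun _ : Fin n => Coh.structureModule X) i).app V.1 (r i • oneSec X V.1), ?_⟩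
    conv_lhs => rw [sum_decomp _ V.1 a]
    rw [map_sum, Finset.smul_sum]
    refine Finset.sum_congr rfl fun i _ => ?_
    rw [hι, ← hr]
    show _ = y • _
    rw [Scheme.Modules.Hom.app_smul, hly, ← Scheme.Modules.Hom.app_smul, smul_comm]
  · choose r hr using fun i => hO ((proj (fun _ : Fin n => Coh.structureModule X) i).app V.1 m)
    refine ⟨∑ i, (Sigma.ι (fun _ : Fin n => ClSub.idealMod I) i).app V.1 (r i • l), ?_⟩
    conv_rhs => rw [sum_decomp _ V.1 m]
    rw [map_sum, Finset.smul_sum]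
    refine Finset.sum_congr rfl fun i _ => ?_
    rw [hι, hr, Scheme.Modules.Hom.app_smul, hly, ← Scheme.Modules.Hom.app_smul, smul_comm]

theorem isQCoh_idealSum (I : X.IdealSheafData) (n : ℕ) : (∐ fun _ : Fin n => ClSub.idealMod I).IsQuasicoherent :=
  haveI : ∀ j, ((Discrete.functor fun _ : Fin n => ClSub.idealMod I).obj j).IsQuasicoherent :=
    fun _ => Groth.OmegaSheaf.isQCoh_idealMod I
  Groth.QCohMod.isQCoh_of_isColimit (Discrete.functor fun _ : Fin n => ClSub.idealMod I) _ (colimit.isColimit _)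

/-- A map from the free module of rank `n - 1` onto the kernel of the sum of the coordinates, on exterior powers. -/
theorem exists_kerMap (X : Scheme.{u}) (n : ℕ) :
    ∃ δ : FlatMod.freeMod X (n - 1) ⟶ FlatMod.freeMod X n, ∀ (V : X.affineOpens) (q : ℕ),
      Function.Injective (exteriorPower.map q (appₗ δ V.1)) ∧
      (∀ z : ESec q (FlatMod.freeMod X n) V.1, dd (KoszSh.secForm (sumForm X n) V.1) (z : ExteriorAlgebra _ _) = 0 ↔
        ∃ w, exteriorPower.map q (appₗ δ V.1) w = z) ∧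
      (1 ≤ n → ∀ z : ESec q (FlatMod.freeMod X n) V.1, dd (KoszSh.secForm (sumForm X n) V.1) (z : ExteriorAlgebra _ _) = 0 →
        ∃ y : ESec (q + 1) (FlatMod.freeMod X n) V.1,
          dd (KoszSh.secForm (sumForm X n) V.1) (y : ExteriorAlgebra _ _) = (z : ExteriorAlgebra _ _)) := by
  rcases n with _ | m
  · refine ⟨𝟙 _, fun V q => ?_⟩
    have hid : appₗ (𝟙 (FlatMod.freeMod X 0)) V.1 = LinearMap.id := LinearMap.ext fun _ => rfl
    have h0 : KoszSh.secForm (sumForm X 0) V.1 = 0 := by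
      refine LinearMap.ext fun e => ?_
      rw [KoszSh.secForm_apply, show sumForm X 0 = 0 from Sigma.hom_ext _ _ fun i => i.elim0]
      exact map_zero _
    rw [hid, exteriorPower.map_id, h0]
    refine ⟨fun a b h => h, fun z => ⟨fun _ => ⟨z, rfl⟩, fun _ => ?_⟩, fun h => absurd h (by omega)⟩
    show CliffordAlgebra.contractLeft (0 : Γ(FlatMod.freeMod X 0, V.1) →ₗ[Γ(X, V.1)] Γ(X, V.1)) (z : ExteriorAlgebra _ _) = 0
    simp
  · let ι := fun i : Fin (m + 1) => Sigma.ι (fun _ : Fin (m + 1) => Coh.structureModule X) i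
    let ι' := fun i : Fin m => Sigma.ι (fun _ : Fin m => Coh.structureModule X) i
    let δ : FlatMod.freeMod X m ⟶ FlatMod.freeMod X (m + 1) := Limits.Sigma.desc fun j => ι j.succ - ι 0
    let p : FlatMod.freeMod X (m + 1) ⟶ FlatMod.freeMod X m := Limits.Sigma.desc (Fin.cases 0 ι')
    have h₁ : δ ≫ p = 𝟙 _ := by
      refine Sigma.hom_ext _ _ fun j => ?_
      simp [δ, p, ι, ι', Preadditive.sub_comp]
    have h₂ : δ ≫ sumForm X (m + 1) = 0 := by
      refine Sigma.hom_ext _ _ fun j => ?_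
      simp [δ, ι, sumForm, Preadditive.sub_comp]
    have h₃ : p ≫ δ + sumForm X (m + 1) ≫ ι 0 = 𝟙 _ := by
      refine Sigma.hom_ext _ _ fun j => ?_
      induction j using Fin.cases <;> simp [δ, p, ι, ι', sumForm, Preadditive.comp_add]
    have h₄ : ι 0 ≫ sumForm X (m + 1) = 𝟙 _ := by simp [ι, sumForm]
    refine ⟨δ, fun V q => ?_⟩
    set σV := KoszSh.secForm (sumForm X (m + 1)) V.1
    set δV := appₗ δ V.1
    set pV := appₗ p V.1
    set e0 := (ι 0).app V.1 (oneSec X V.1)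
    have hpδ : pV ∘ₗ δV = LinearMap.id := LinearMap.ext fun a => congr(($h₁).app V.1 a)
    have hσδ : σV ∘ₗ δV = 0 := LinearMap.ext fun a => by
      show OmegaSh.fnSect X V.1 ((sumForm X (m + 1)).app V.1 (δ.app V.1 a)) = 0
      rw [← comp_app_apply, h₂]
      exact map_zero _
    have hdec : ∀ a, δV (pV a) + σV a • e0 = a := fun a => by
      have h := congr(($h₃).app V.1 a)
      refine Eq.trans ?_ h
      show δ.app V.1 (p.app V.1 a) + σV a • e0 = δ.app V.1 (p.app V.1 a) + (ι 0).app V.1 ((sumForm X (m + 1)).app V.1 a)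
      congr 1
      rw [eq_toFun_smul_oneSec ((sumForm X (m + 1)).app V.1 a), Scheme.Modules.Hom.app_smul]
      rfl
    refine ⟨Function.LeftInverse.injective (g := exteriorPower.map q pV) fun a => ?_, fun z => ⟨fun hz => ?_, ?_⟩, fun _ z hz => ?_⟩
    · rw [← LinearMap.comp_apply, ← exteriorPower.map_comp, hpδ, exteriorPower.map_id, LinearMap.id_apply]
    · refine ⟨exteriorPower.map q pV z, Subtype.ext ?_⟩
      rw [coe_map, coe_map]
      have h := split_decomp δV σV pV e0 hσδ hdec (z : ExteriorAlgebra _ _)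
      rw [hz, map_zero, map_zero, mul_zero, add_zero] at h
      exact h.symm
    · rintro ⟨w, rfl⟩
      rw [coe_map]
      exact dd_map_zero δV σV hσδ _
    · refine ⟨⟨ExteriorAlgebra.ι _ e0 * (z : ExteriorAlgebra _ _), ?_⟩, ?_⟩
      · rw [show (⋀[Γ(X, V.1)]^(q + 1) Γ(FlatMod.freeMod X (m + 1), V.1)) =
          LinearMap.range (ExteriorAlgebra.ι Γ(X, V.1)) * ⋀[Γ(X, V.1)]^q Γ(FlatMod.freeMod X (m + 1), V.1) from pow_succ' _ q]
        exact Submodule.mul_mem_mul ⟨e0, rfl⟩ z.2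
      · show dd σV (ExteriorAlgebra.ι _ e0 * (z : ExteriorAlgebra _ _)) = _
        rw [dd_ι_mul, hz, mul_zero, sub_zero]
        have he : σV e0 = 1 := by
          show OmegaSh.fnSect X V.1 ((sumForm X (m + 1)).app V.1 ((ι 0).app V.1 (oneSec X V.1))) = 1
          rw [← comp_app_apply, h₄]
          rfl
        rw [he, one_smul]

/-- The cycles of `n` copies of `I`, seen in the exterior power of the free module. -/
theorem cycles_image (I : X.IdealSheafData) (hI : BlowUp.IsEffCartierIdeal I) (n q : ℕ)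
    (C : KoszSh.Cx (∐ fun _ : Fin n => ClSub.idealMod I) (Limits.Sigma.desc fun _ : Fin n => ClSub.idealModι I))
    (P : X.Modules) (φP : ∀ U : X.affineOpens, Γ(P, U.1) ≃ₗ[Γ(X, U.1)] ESec q (FlatMod.freeMod X n) U.1)
    (hP : ∀ (U V : X.affineOpens) (h : V.1 ≤ U.1) (e : Fin q → Γ(FlatMod.freeMod X n, U.1)),
      res P h ((φP U).symm (ewedge q _ e)) = (φP V).symm (ewedge q _ fun j => res _ h (e j))) :
    ∃ ψ : C.K.cycles q ⟶ P, Mono ψ ∧ ∀ (V : X.affineOpens) (y : Γ(X, V.1)), y ∈ nonZeroDivisors Γ(X, V.1) →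
      I.ideal V = Ideal.span {y} → Function.Injective (ψ.app V.1) ∧
      (∀ z, ∃ b : ESec q (FlatMod.freeMod X n) V.1, dd (KoszSh.secForm (sumForm X n) V.1) (b : ExteriorAlgebra _ _) = 0 ∧
        φP V (ψ.app V.1 z) = y ^ q • b) ∧
      (∀ b : ESec q (FlatMod.freeMod X n) V.1, dd (KoszSh.secForm (sumForm X n) V.1) (b : ExteriorAlgebra _ _) = 0 →
        ∃ z, φP V (ψ.app V.1 z) = y ^ q • b) ∧
      (∀ w, ∃ b : ESec (q + 1) (FlatMod.freeMod X n) V.1,
        (φP V (ψ.app V.1 ((C.K.toCycles (q + 1) q).app V.1 w)) : ExteriorAlgebra _ _) =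
          y ^ (q + 1) • dd (KoszSh.secForm (sumForm X n) V.1) (b : ExteriorAlgebra _ _)) ∧
      (∀ b : ESec (q + 1) (FlatMod.freeMod X n) V.1, ∃ w,
        (φP V (ψ.app V.1 ((C.K.toCycles (q + 1) q).app V.1 w)) : ExteriorAlgebra _ _) =
          y ^ (q + 1) • dd (KoszSh.secForm (sumForm X n) V.1) (b : ExteriorAlgebra _ _)) := by
  haveI := isQCoh_idealSum I n
  obtain ⟨F, hF⟩ := exists_extMap q (C.loc q) (C.loc_res q) φP hP (inFree I n)
  haveI : (C.K.X q).IsQuasicoherent := isQCoh_of_isExtPow (KoszSh.Cx.isExtPow C q)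
  haveI : (FlatMod.freeMod X n).IsQuasicoherent := Groth.KTheory.LocFree.isQCoh (isFinLocFree_freeMod X n)
  haveI : P.IsQuasicoherent := isQCoh_of_isExtPow (isExtPow_def.2 ⟨φP, hP⟩)
  have hfree : ∀ p (V : X.affineOpens) (y : Γ(X, V.1)), y ∈ nonZeroDivisors Γ(X, V.1) →
      IsSMulRegular (ESec p (FlatMod.freeMod X n) V.1) y := by
    intro p V y hy a b h
    obtain ⟨L, -, hL⟩ := exists_isExtPow p (FlatMod.freeMod X n)
    obtain ⟨φ, -⟩ := isExtPow_def.1 hL
    refine (φ V).symm.injective (regular_sections (isFinLocFree_of_isExtPow (isFinLocFree_freeMod X n) hL) V hy ?_)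
    show y • (φ V).symm a = y • (φ V).symm b
    rw [← map_smul, ← map_smul]
    exact congrArg (φ V).symm h
  have hdd : ∀ (V : X.affineOpens) (a : ExteriorAlgebra Γ(X, V.1) Γ(∐ fun _ : Fin n => ClSub.idealMod I, V.1)),
      dd (KoszSh.secForm (sumForm X n) V.1) (ExteriorAlgebra.map (appₗ (inFree I n) V.1) a) =
        ExteriorAlgebra.map (appₗ (inFree I n) V.1)
          (dd (KoszSh.secForm (Limits.Sigma.desc fun _ : Fin n => ClSub.idealModι I) V.1) a) := by
    intro V a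
    have h : KoszSh.secForm (sumForm X n) V.1 ∘ₗ appₗ (inFree I n) V.1 =
        KoszSh.secForm (Limits.Sigma.desc fun _ : Fin n => ClSub.idealModι I) V.1 := by
      refine LinearMap.ext fun e => ?_
      show OmegaSh.fnSect X V.1 ((sumForm X n).app V.1 ((inFree I n).app V.1 e)) = _
      rw [← comp_app_apply, inFree_sum]
      rfl
    rw [dd_map, h]
  have loc : ∀ (V : X.affineOpens) (y : Γ(X, V.1)), y ∈ nonZeroDivisors Γ(X, V.1) → I.ideal V = Ideal.span {y} →
      ∀ p, Function.Injective (exteriorPower.map p (appₗ (inFree I n) V.1)) ∧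
        (∀ a, ∃ b, exteriorPower.map p (appₗ (inFree I n) V.1) a = y ^ p • b) ∧
        ∀ b, ∃ a, exteriorPower.map p (appₗ (inFree I n) V.1) a = y ^ p • b := by
    intro V y hy hIy p
    obtain ⟨h1, h2, h3⟩ := inFree_app I n V hy hIy
    exact map_range_smul p (appₗ (inFree I n) V.1) y h1 (regular_sections (isFinLocFree_freeMod X n) V hy) (hfree p V y hy) h2 h3
  have hcyc : ∀ (V : X.affineOpens) (a : Γ(C.K.X q, V.1)),
      (C.K.d q ((ComplexShape.down ℕ).next q)).app V.1 a = 0 ↔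
        dd (KoszSh.secForm (Limits.Sigma.desc fun _ : Fin n => ClSub.idealModι I) V.1) (C.loc q V a : ExteriorAlgebra _ _) = 0 := by
    intro V a
    rcases q with _ | q
    · refine ⟨fun _ => dd_deg_zero _ (C.loc 0 V a).2, fun _ => ?_⟩
      rw [show C.K.d 0 ((ComplexShape.down ℕ).next 0) = 0 from C.K.shape _ _ (by simp)]
      rfl
    · rw [ChainComplex.next_nat_succ, ← loc_d C q V a, Submodule.coe_eq_zero, LinearEquiv.map_eq_zero_iff]
  let ψ := C.K.iCycles q ≫ F
  have hψF : ∀ (V : X.affineOpens) z, φP V (ψ.app V.1 z) =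
      exteriorPower.map q (appₗ (inFree I n) V.1) (C.loc q V ((C.K.iCycles q).app V.1 z)) := fun V z => by
    rw [comp_app_apply, hF]
  have hinj : ∀ (V : X.affineOpens) (y : Γ(X, V.1)), y ∈ nonZeroDivisors Γ(X, V.1) → I.ideal V = Ideal.span {y} →
      Function.Injective (ψ.app V.1) := fun V y hy hIy a b h => by
    refine Groth.QCohMod.app_injective_of_mono (C.K.iCycles q) V.1 ((C.loc q V).injective ((loc V y hy hIy q).1 ?_))
    rw [← hψF, ← hψF, h]
  haveI := isQCoh_cycles C.K (fun p => isQCoh_of_isExtPow (KoszSh.Cx.isExtPow C p)) q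
  refine ⟨ψ, Groth.OmegaSheaf.mono_of_affine_cover ψ fun p => ?_, fun V y hy hIy => ⟨hinj V y hy hIy, fun z => ?_, fun b hb => ?_, fun w => ?_, fun b => ?_⟩⟩
  · obtain ⟨V, hpV, -, y, hy, hIy⟩ := Divisors.exists_generator hI p ⊤ trivial
    exact ⟨V.1, V.2, hpV, hinj V y hy.mem_nonZeroDivisors hIy⟩
  · obtain ⟨b, hb⟩ := (loc V y hy hIy q).2.1 (C.loc q V ((C.K.iCycles q).app V.1 z))
    refine ⟨b, ?_, (hψF V z).trans hb⟩
    have h1 := (hcyc V ((C.K.iCycles q).app V.1 z)).1 (by rw [← comp_app_apply, C.K.iCycles_d]; rfl)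
    have h2 : y ^ q • dd (KoszSh.secForm (sumForm X n) V.1) (b : ExteriorAlgebra _ _) = 0 := by
      rw [← map_smul, ← Submodule.coe_smul, ← hb, coe_map, hdd, h1, map_zero]
    rcases q with _ | q
    · exact dd_deg_zero _ b.2
    · have h3 := (hfree q V y hy).pow (q + 1) (show y ^ (q + 1) • (⟨_, dd_degree _ q b.2⟩ : ESec q (FlatMod.freeMod X n) V.1) = y ^ (q + 1) • 0 by
        rw [smul_zero]; exact Subtype.ext h2)
      exact congrArg Subtype.val h3
  · obtain ⟨a, ha⟩ := (loc V y hy hIy q).2.2 b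
    have h1 : ExteriorAlgebra.map (appₗ (inFree I n) V.1)
        (dd (KoszSh.secForm (Limits.Sigma.desc fun _ : Fin n => ClSub.idealModι I) V.1) (a : ExteriorAlgebra _ _)) = 0 := by
      rw [← hdd, ← coe_map, ha, Submodule.coe_smul, map_smul, hb, smul_zero]
    have h2 : dd (KoszSh.secForm (Limits.Sigma.desc fun _ : Fin n => ClSub.idealModι I) V.1) (a : ExteriorAlgebra _ _) = 0 := by
      rcases q with _ | q
      · exact dd_deg_zero _ a.2
      · have h3 := (loc V y hy hIy q).1 (show exteriorPower.map q (appₗ (inFree I n) V.1) ⟨_, dd_degree _ q a.2⟩ = exteriorPower.map q _ 0 by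
          rw [map_zero]; exact Subtype.ext ((coe_map _ _ _).trans h1))
        exact congrArg Subtype.val h3
    obtain ⟨z, hz⟩ := exists_cycle C.K q V.1 ((C.loc q V).symm a) ((hcyc V _).2 (by rw [LinearEquiv.apply_symm_apply]; exact h2))
    exact ⟨z, by rw [hψF, hz, LinearEquiv.apply_symm_apply, ha]⟩
  · obtain ⟨b, hb⟩ := (loc V y hy hIy (q + 1)).2.1 (C.loc (q + 1) V w)
    refine ⟨b, ?_⟩
    rw [hψF, coe_map, ← comp_app_apply, C.K.toCycles_i, loc_d, ← hdd, ← coe_map, hb, Submodule.coe_smul, map_smul]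
  · obtain ⟨a, ha⟩ := (loc V y hy hIy (q + 1)).2.2 b
    refine ⟨(C.loc (q + 1) V).symm a, ?_⟩
    rw [hψF, coe_map, ← comp_app_apply, C.K.toCycles_i, loc_d, LinearEquiv.apply_symm_apply, ← hdd, ← coe_map, ha,
      Submodule.coe_smul, map_smul]

theorem cycles_iso (I : X.IdealSheafData) (hI : BlowUp.IsEffCartierIdeal I) (n q : ℕ)
    (C : KoszSh.Cx (∐ fun _ : Fin n => ClSub.idealMod I) (Limits.Sigma.desc fun _ : Fin n => ClSub.idealModι I))
    (L : X.Modules) (hL : ExtPow.IsExtPow q (FlatMod.freeMod X (n - 1)) L) :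
    Nonempty (C.K.cycles q ≅ CohB1.tensorMod L (CohB1.tensorPow (ClSub.idealMod I) q)) := by
  haveI : (FlatMod.freeMod X (n - 1)).IsQuasicoherent := Groth.KTheory.LocFree.isQCoh (isFinLocFree_freeMod X (n - 1))
  haveI : (FlatMod.freeMod X n).IsQuasicoherent := Groth.KTheory.LocFree.isQCoh (isFinLocFree_freeMod X n)
  obtain ⟨P, -, hPe⟩ := exists_isExtPow q (FlatMod.freeMod X n)
  obtain ⟨φP, hP⟩ := isExtPow_def.1 hPe
  obtain ⟨φL, hφL⟩ := isExtPow_def.1 hL
  obtain ⟨ψ, hψm, hψ⟩ := cycles_image I hI n q C P φP hP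
  obtain ⟨δ, hδ⟩ := exists_kerMap X n
  obtain ⟨Δ, hΔ⟩ := exists_extMap q φL hφL φP hP δ
  haveI : (ClSub.idealMod I).IsQuasicoherent := Groth.OmegaSheaf.isQCoh_idealMod I
  haveI := isQCoh_tensorPow (ClSub.idealMod I) q
  haveI : L.IsQuasicoherent := isQCoh_of_isExtPow hL
  haveI : P.IsQuasicoherent := isQCoh_of_isExtPow hPe
  haveI := Groth.QCohMod.isQCoh_tensorMod (M := L) (N := CohB1.tensorPow (ClSub.idealMod I) q)
  haveI := isQCoh_idealSum I n
  haveI := isQCoh_cycles C.K (fun p => isQCoh_of_isExtPow (KoszSh.Cx.isExtPow C p)) q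
  let b : CohB1.tensorMod L (CohB1.tensorPow (ClSub.idealMod I) q) ⟶ P := mulPow (ClSub.idealModι I) L q ≫ Δ
  have hb : ∀ (V : X.affineOpens) (y : Γ(X, V.1)), y ∈ nonZeroDivisors Γ(X, V.1) → I.ideal V = Ideal.span {y} →
      ∃ g : Γ(CohB1.tensorPow (ClSub.idealMod I) q, V.1), (Function.Bijective fun r : Γ(X, V.1) => r • g) ∧
        Function.Injective (b.app V.1) ∧
        ∀ l, φP V (b.app V.1 (tmulSec l g)) = y ^ q • exteriorPower.map q (appₗ δ V.1) (φL V l) := by
    intro V y hy hIy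
    obtain ⟨l₀, hl₀, hly⟩ := idealModι_app I V hy hIy
    obtain ⟨g, hg, hgy⟩ := exists_pow_gen (ClSub.idealModι I) V.2 l₀ hl₀ y hly q
    have hf : ∀ l, φP V (b.app V.1 (tmulSec l g)) = y ^ q • exteriorPower.map q (appₗ δ V.1) (φL V l) := fun l => by
      rw [comp_app_apply, mulPow_app _ _ q V.1 l g _ hgy, Scheme.Modules.Hom.app_smul, map_smul, hΔ]
    refine ⟨g, hg, fun s t h => ?_, hf⟩
    obtain ⟨l, rfl⟩ := (tmul_bijective (M := L) V.2 g hg).2 s
    obtain ⟨l', rfl⟩ := (tmul_bijective (M := L) V.2 g hg).2 t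
    have h' := congrArg (φP V) h
    rw [hf, hf] at h'
    simp only [← map_smul] at h'
    have h'' := (φL V).injective ((hδ V q).1 h')
    rw [(regular_sections (isFinLocFree_of_isExtPow (isFinLocFree_freeMod X (n - 1)) hL) V hy).pow q h'']
  haveI : Mono b := Groth.OmegaSheaf.mono_of_affine_cover b fun p => by
    obtain ⟨V, hpV, -, y, hy, hIy⟩ := Divisors.exists_generator hI p ⊤ trivial
    obtain ⟨g, -, h, -⟩ := hb V y hy.mem_nonZeroDivisors hIy
    exact ⟨V.1, V.2, hpV, h⟩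
  refine (nonempty_iso_of_mono ψ b fun p W hp => ?_).elim fun e _ => ⟨e⟩
  obtain ⟨V, hpV, hVW, y, hy, hIy⟩ := Divisors.exists_generator hI p W hp
  obtain ⟨g, hg, -, hf⟩ := hb V y hy.mem_nonZeroDivisors hIy
  obtain ⟨hi, h1, h2, -, -⟩ := hψ V y hy.mem_nonZeroDivisors hIy
  refine ⟨V.1, V.2, hpV, hVW, hi, fun z => ?_, fun t => ?_⟩
  · obtain ⟨k, hk, hz⟩ := h1 z
    obtain ⟨w, rfl⟩ := ((hδ V q).2.1 k).1 hk
    exact ⟨tmulSec ((φL V).symm w) g, (φP V).injective (by rw [hf, LinearEquiv.apply_symm_apply, hz])⟩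
  · obtain ⟨l, rfl⟩ := (tmul_bijective (M := L) V.2 g hg).2 t
    obtain ⟨z, hz⟩ := h2 _ (((hδ V q).2.1 _).2 ⟨φL V l, rfl⟩)
    exact ⟨z, (φP V).injective (by rw [hz, hf])⟩

theorem restriction_iso (I ID : X.IdealSheafData) (hI : BlowUp.IsEffCartierIdeal I) (hD : BlowUp.IsEffCartierIdeal ID)
    (n q : ℕ) (hn : 1 ≤ n)
    (C : KoszSh.Cx (∐ fun _ : Fin n => ClSub.idealMod I) (Limits.Sigma.desc fun _ : Fin n => ClSub.idealModι I))
    (CD : KoszSh.Cx (∐ fun _ : Fin n => ClSub.idealMod ID) (Limits.Sigma.desc fun _ : Fin n => ClSub.idealModι ID)) :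
    Nonempty ((Scheme.Modules.pullback ID.subschemeι ⋙ Scheme.Modules.pushforward ID.subschemeι).obj
        (CohB1.tensorMod (C.K.cycles q) (CohB1.tensorPow (ClSub.idealMod ID) q)) ≅
      CohB1.tensorMod (CD.K.homology q) (CohB1.tensorPow (ClSub.idealMod I) q)) := by
  haveI : (FlatMod.freeMod X n).IsQuasicoherent := Groth.KTheory.LocFree.isQCoh (isFinLocFree_freeMod X n)
  obtain ⟨P, -, hPe⟩ := exists_isExtPow q (FlatMod.freeMod X n)
  obtain ⟨φP, hP⟩ := isExtPow_def.1 hPe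
  obtain ⟨ψ, hψm, hψ⟩ := cycles_image I hI n q C P φP hP
  obtain ⟨ψD, hψDm, hψD⟩ := cycles_image ID hD n q CD P φP hP
  obtain ⟨δ, hδ⟩ := exists_kerMap X n
  haveI : P.IsQuasicoherent := isQCoh_of_isExtPow hPe
  haveI : (ClSub.idealMod I).IsQuasicoherent := Groth.OmegaSheaf.isQCoh_idealMod I
  haveI : (ClSub.idealMod ID).IsQuasicoherent := Groth.OmegaSheaf.isQCoh_idealMod ID
  haveI := isQCoh_tensorPow (ClSub.idealMod I) q
  haveI := isQCoh_tensorPow (ClSub.idealMod ID) q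
  haveI := isQCoh_idealSum I n
  haveI := isQCoh_idealSum ID n
  have hCq := fun p => isQCoh_of_isExtPow (KoszSh.Cx.isExtPow C p)
  have hDq := fun p => isQCoh_of_isExtPow (KoszSh.Cx.isExtPow CD p)
  haveI := isQCoh_cycles C.K hCq q
  haveI := isQCoh_cycles CD.K hDq q
  haveI := isQCoh_homology CD.K hDq q
  haveI := hDq (q + 1)
  haveI := Groth.QCohMod.isQCoh_tensorMod (M := C.K.cycles q) (N := CohB1.tensorPow (ClSub.idealMod ID) q)
  haveI := Groth.QCohMod.isQCoh_tensorMod (M := CD.K.cycles q) (N := CohB1.tensorPow (ClSub.idealMod I) q)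
  haveI := Groth.QCohMod.isQCoh_tensorMod (M := CD.K.homology q) (N := CohB1.tensorPow (ClSub.idealMod I) q)
  let A := CohB1.tensorMod (C.K.cycles q) (CohB1.tensorPow (ClSub.idealMod ID) q)
  let a : A ⟶ P := mulPow (ClSub.idealModι ID) (C.K.cycles q) q ≫ ψ
  let b : CohB1.tensorMod (CD.K.cycles q) (CohB1.tensorPow (ClSub.idealMod I) q) ⟶ P :=
    mulPow (ClSub.idealModι I) (CD.K.cycles q) q ≫ ψD
  have cover : ∀ (p : X) (W : X.Opens), p ∈ W → ∃ (V : X.affineOpens) (x y : Γ(X, V.1)),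
      p ∈ V.1 ∧ V.1 ≤ W ∧ x ∈ nonZeroDivisors Γ(X, V.1) ∧ ID.ideal V = Ideal.span {x} ∧
      y ∈ nonZeroDivisors Γ(X, V.1) ∧ I.ideal V = Ideal.span {y} := by
    intro p W hp
    obtain ⟨U, hpU, hUW, y, hy, hIy⟩ := Divisors.exists_generator hI p W hp
    obtain ⟨V, hpV, hVU, x, hx, hDx⟩ := Divisors.exists_generator hD p U.1 hpU
    refine ⟨V, x, X.presheaf.map (homOfLE hVU).op y, hpV, hVU.trans hUW, hx.mem_nonZeroDivisors, hDx,
      (hy.res hVU).mem_nonZeroDivisors, ?_⟩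
    rw [← I.map_ideal (U := V) (V := U) hVU, hIy, Ideal.map_span, Set.image_singleton]
    rfl
  have hPreg : ∀ (V : X.affineOpens) (r : Γ(X, V.1)), r ∈ nonZeroDivisors Γ(X, V.1) → IsSMulRegular Γ(P, V.1) r :=
    fun V r hr => regular_sections (isFinLocFree_of_isExtPow (isFinLocFree_freeMod X n) hPe) V hr
  have loc : ∀ (V : X.affineOpens) (x y : Γ(X, V.1)), x ∈ nonZeroDivisors Γ(X, V.1) → ID.ideal V = Ideal.span {x} →
      y ∈ nonZeroDivisors Γ(X, V.1) → I.ideal V = Ideal.span {y} →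
      ∃ (g : Γ(CohB1.tensorPow (ClSub.idealMod ID) q, V.1)) (h : Γ(CohB1.tensorPow (ClSub.idealMod I) q, V.1)),
        (Function.Bijective fun r : Γ(X, V.1) => r • g) ∧ (Function.Bijective fun r : Γ(X, V.1) => r • h) ∧
        (∀ z, a.app V.1 (tmulSec z g) = x ^ q • ψ.app V.1 z) ∧ (∀ z, b.app V.1 (tmulSec z h) = y ^ q • ψD.app V.1 z) ∧
        Function.Injective (a.app V.1) ∧ Function.Injective (b.app V.1) ∧
        (∀ s, ∃ t, b.app V.1 t = a.app V.1 s) ∧ ∀ t, ∃ s, a.app V.1 s = b.app V.1 t := by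
    intro V x y hx hDx hy hIy
    obtain ⟨l, hl, hlx⟩ := idealModι_app ID V hx hDx
    obtain ⟨m, hm, hmy⟩ := idealModι_app I V hy hIy
    obtain ⟨g, hg, hgx⟩ := exists_pow_gen (ClSub.idealModι ID) V.2 l hl x hlx q
    obtain ⟨h, hh, hhy⟩ := exists_pow_gen (ClSub.idealModι I) V.2 m hm y hmy q
    obtain ⟨hψi, hψ1, hψ2, -, -⟩ := hψ V y hy hIy
    obtain ⟨hDi, hD1, hD2, -, -⟩ := hψD V x hx hDx
    have ha : ∀ z, a.app V.1 (tmulSec z g) = x ^ q • ψ.app V.1 z := fun z => by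
      rw [comp_app_apply, mulPow_app _ _ q V.1 z g _ hgx, Scheme.Modules.Hom.app_smul]
    have hb : ∀ z, b.app V.1 (tmulSec z h) = y ^ q • ψD.app V.1 z := fun z => by
      rw [comp_app_apply, mulPow_app _ _ q V.1 z h _ hhy, Scheme.Modules.Hom.app_smul]
    refine ⟨g, h, hg, hh, ha, hb, fun s t hst => ?_, fun s t hst => ?_, fun s => ?_, fun t => ?_⟩
    · obtain ⟨z, rfl⟩ := (tmul_bijective (M := C.K.cycles q) V.2 g hg).2 s
      obtain ⟨z', rfl⟩ := (tmul_bijective (M := C.K.cycles q) V.2 g hg).2 t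
      rw [ha, ha] at hst
      rw [hψi ((hPreg V x hx).pow q hst)]
    · obtain ⟨z, rfl⟩ := (tmul_bijective (M := CD.K.cycles q) V.2 h hh).2 s
      obtain ⟨z', rfl⟩ := (tmul_bijective (M := CD.K.cycles q) V.2 h hh).2 t
      rw [hb, hb] at hst
      rw [hDi ((hPreg V y hy).pow q hst)]
    · obtain ⟨z, rfl⟩ := (tmul_bijective (M := C.K.cycles q) V.2 g hg).2 s
      obtain ⟨k, hk, hz⟩ := hψ1 z
      obtain ⟨w, hw⟩ := hD2 k hk
      exact ⟨tmulSec w h, (φP V).injective (by rw [hb, ha, map_smul, map_smul, hw, hz, smul_comm])⟩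
    · obtain ⟨z, rfl⟩ := (tmul_bijective (M := CD.K.cycles q) V.2 h hh).2 t
      obtain ⟨k, hk, hz⟩ := hD1 z
      obtain ⟨w, hw⟩ := hψ2 k hk
      exact ⟨tmulSec w g, (φP V).injective (by rw [hb, ha, map_smul, map_smul, hw, hz, smul_comm])⟩
  haveI : Mono b := Groth.OmegaSheaf.mono_of_affine_cover b fun p => by
    obtain ⟨V, x, y, hpV, -, hx, hDx, hy, hIy⟩ := cover p ⊤ trivial
    obtain ⟨-, -, -, -, -, -, -, hi, -, -⟩ := loc V x y hx hDx hy hIy
    exact ⟨V.1, V.2, hpV, hi⟩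
  obtain ⟨e, he⟩ := nonempty_iso_of_mono a b fun p W hp => by
    obtain ⟨V, x, y, hpV, hVW, hx, hDx, hy, hIy⟩ := cover p W hp
    obtain ⟨-, -, -, -, -, -, hi, -, h1, h2⟩ := loc V x y hx hDx hy hIy
    exact ⟨V.1, V.2, hpV, hVW, hi, h1, h2⟩
  haveI hRA := isQCoh_RD ID A
  haveI : Epi (unitD ID A) := Groth.OmegaSheaf.epi_of_affine_cover _ fun p => by
    obtain ⟨V, x, y, hpV, -, -, hDx, -, -⟩ := cover p ⊤ trivial
    exact ⟨V.1, V.2, hpV, (unit_RD ID A V x hDx).1⟩
  let γ := e.hom ≫ KoszTw.tensorMap (CD.K.homologyπ q) (𝟙 (CohB1.tensorPow (ClSub.idealMod I) q))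
  refine nonempty_iso_of_epi (unitD ID A) γ fun p W hp => ?_
  obtain ⟨V, x, y, hpV, hVW, hx, hDx, hy, hIy⟩ := cover p W hp
  obtain ⟨g, h, hg, hh, ha, hb, -, -, -, -⟩ := loc V x y hx hDx hy hIy
  obtain ⟨hDi, hD1, hD2, hD3, hD4⟩ := hψD V x hx hDx
  have hγ : ∀ z, γ.app V.1 (e.inv.app V.1 (tmulSec z h)) = tmulSec ((CD.K.homologyπ q).app V.1 z) h := fun z => by
    rw [comp_app_apply, ← comp_app_apply e.inv, e.inv_hom_id, id_app_apply, tensorMap_app_tmulSec, id_app_apply]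
  have hsurj : ∀ t, ∃ z, e.inv.app V.1 (tmulSec z h) = t := fun t => by
    obtain ⟨z, hz⟩ := (tmul_bijective (M := CD.K.cycles q) V.2 h hh).2 (e.hom.app V.1 t)
    exact ⟨z, by rw [show tmulSec z h = e.hom.app V.1 t from hz, ← comp_app_apply, e.hom_inv_id, id_app_apply]⟩
  refine ⟨V.1, V.2, hpV, hVW, fun t => ?_, fun s => ?_⟩
  · obtain ⟨c, rfl⟩ := (tmul_bijective (M := CD.K.homology q) V.2 h hh).2 t
    obtain ⟨z, rfl⟩ := Groth.QCohMod.app_surjective_of_epi (CD.K.homologyπ q) V.2 c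
    exact ⟨_, hγ z⟩
  obtain ⟨z, rfl⟩ := hsurj s
  rw [(unit_RD ID A V x hDx).2, hγ, show (tmulSec ((CD.K.homologyπ q).app V.1 z) h = 0) ↔ (CD.K.homologyπ q).app V.1 z = 0 from
    ⟨fun h0 => (tmul_bijective V.2 h hh).1 (h0.trans (tmulSec_zero_left h).symm), fun h0 => by rw [h0, tmulSec_zero_left]⟩]
  constructor
  · rintro ⟨t, ht⟩
    obtain ⟨z', rfl⟩ := hsurj t
    have hz : z = x • z' := by
      refine (tmul_bijective (M := CD.K.cycles q) V.2 h hh).1 ?_
      show tmulSec z h = tmulSec (x • z') h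
      have := congrArg (e.hom.app V.1) ht
      rwa [← Scheme.Modules.Hom.app_smul, ← comp_app_apply, ← comp_app_apply, e.inv_hom_id, id_app_apply, id_app_apply,
        ← tmulSec_smul_left] at this
    obtain ⟨k, hk, hk'⟩ := hD1 z'
    obtain ⟨u, hu⟩ := (hδ V q).2.2 hn k hk
    obtain ⟨w, hw⟩ := hD4 u
    have : z = (CD.K.toCycles (q + 1) q).app V.1 w := hDi ((φP V).injective (Subtype.ext (by
      rw [hw, hz, Scheme.Modules.Hom.app_smul, map_smul, hk', smul_smul, ← pow_succ', Submodule.coe_smul, hu])))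
    rw [this, ← comp_app_apply, CD.K.toCycles_comp_homologyπ]
    rfl
  · intro hz
    obtain ⟨w, rfl⟩ := Groth.QCohMod.exists_app_eq_of_exact
      (S := ShortComplex.mk (CD.K.toCycles (q + 1) q) (CD.K.homologyπ q) (CD.K.toCycles_comp_homologyπ _ _))
      (toCycles_exact CD.K q) V.2 z hz
    obtain ⟨u, hu⟩ := hD3 w
    obtain ⟨z', hz'⟩ := hD2 ⟨_, dd_degree (KoszSh.secForm (sumForm X n) V.1) q u.2⟩ (dd_dd _ _)
    refine ⟨e.inv.app V.1 (tmulSec z' h), ?_⟩
    rw [← Scheme.Modules.Hom.app_smul, ← tmulSec_smul_left]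
    congr 2
    refine hDi ((φP V).injective (Subtype.ext ?_))
    rw [hu, Scheme.Modules.Hom.app_smul, map_smul, hz', smul_smul, ← pow_succ']
    rfl

end Groth.KoszShLib
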