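import Mathlib
import Groth.Prelude.Def_RegImm
import Groth.Agent.KoszShLib.TwistDiv
import Groth.Agent.KoszShLib.RegularQuot
import Groth.Agent.Ega4Algebra2.CMUnmixed
import Groth.Agent.Ega4Algebra2.RegularImmersion
import Groth.Agent.Calg4.RegularAscent
import Groth.Agent.NeronArea.WeilExtensionBase

/-! On a smooth variety, a divisor containing no component of a local complete intersection is regular on
the Koszul homology. -/

set_option autoImplicit false
set_option backward.isDefEq.respectTransparency false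

universe u

open CategoryTheory CategoryTheory.Limits AlgebraicGeometry TopologicalSpace Opposite IsLocalRing

noncomputable section

namespace Groth.KoszShLib

open Groth.PicAux Groth.LocFree
open Groth.QCohMod (appₗ)

section Algebra

theorem eq_zero_dim {A : Type u} [CommRing A] [IsLocalRing A] [IsNoetherianRing A]
    (hA : LocCoh.IsCohenMacaulayModule A A) (l : List A) (hm : ∀ x ∈ l, x ∈ maximalIdeal A)
    (hreg : RingTheory.Sequence.IsWeaklyRegular A l)
    (hass : maximalIdeal A ∈ associatedPrimes A (A ⧸ Ideal.ofList l)) :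
    ringKrullDim (A ⧸ Ideal.ofList l) = 0 := by
  have hne : Ideal.ofList l ≠ ⊤ := fun h => (maximalIdeal.isMaximal A).ne_top
    (top_le_iff.mp (h ▸ Ideal.span_le.mpr hm))
  haveI : Nontrivial (A ⧸ Ideal.ofList l) := Ideal.Quotient.nontrivial_iff.2 hne
  have he : Ideal.ofList l • (⊤ : Submodule A A) = Ideal.ofList l := by rw [smul_eq_mul, Ideal.mul_top]
  have hCM := (Groth.Ega4b.isCM_congr (Submodule.quotEquivOfEq _ _ he)).mp
    (Groth.Ega4b.isCM_quotient_ofList l A hA hm hreg)
  have hmin := Groth.LocCohBase.mem_minimalPrimes_of_CM hCM hass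
  rw [Ideal.annihilator_quotient] at hmin
  refine le_antisymm (Ring.krullDimLE_iff.1 (Ring.KrullDimLE.mk₀ fun P hP => ?_)) ringKrullDim_nonneg_of_nontrivial
  haveI := hP
  have hc : P.comap (Ideal.Quotient.mk (Ideal.ofList l)) = maximalIdeal A := le_antisymm
    (IsLocalRing.le_maximalIdeal (Ideal.IsPrime.ne_top inferInstance))
    (hmin.2 ⟨inferInstance, fun a ha => by rw [Ideal.mem_comap, Ideal.Quotient.eq_zero_iff_mem.2 ha]; exact P.zero_mem⟩
      (IsLocalRing.le_maximalIdeal (Ideal.IsPrime.ne_top inferInstance)))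
  rw [← Ideal.map_comap_of_surjective _ Ideal.Quotient.mk_surjective P, hc]
  exact (Ideal.map_eq_top_or_isMaximal_of_surjective _ Ideal.Quotient.mk_surjective (maximalIdeal.isMaximal A)).resolve_left fun ht => by
    rw [← hc, Ideal.map_comap_of_surjective _ Ideal.Quotient.mk_surjective P] at ht
    exact Ideal.IsPrime.ne_top inferInstance ht

theorem ass_localization {R S : Type u} [CommRing R] [CommRing S] [Algebra R S] (Q : Ideal R) [Q.IsPrime]
    [IsLocalization.AtPrime S Q] [IsLocalRing S] (J : Ideal R) (h : Q ∈ associatedPrimes R (R ⧸ J)) :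
    maximalIdeal S ∈ associatedPrimes S (S ⧸ J.map (algebraMap R S)) := by
  let f : (R ⧸ J) →ₗ[R] S ⧸ J.map (algebraMap R S) :=
    Submodule.mapQ J ((J.map (algebraMap R S)).restrictScalars R) (Algebra.linearMap R S)
      fun a ha => Ideal.mem_map_of_mem _ ha
  haveI : IsLocalizedModule Q.primeCompl f := by
    refine ⟨fun s => ?_, fun t => ?_, fun {a b} hab => ?_⟩
    · obtain ⟨u, hu⟩ := IsLocalization.map_units S s
      refine (Module.End.isUnit_iff _).2 ⟨fun a b hab => ?_, fun a => ⟨(↑u⁻¹ : S) • a, ?_⟩⟩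
      · have h1 : (↑u⁻¹ : S) • ((s : R) • a) = (↑u⁻¹ : S) • ((s : R) • b) := congrArg ((↑u⁻¹ : S) • ·) hab
        rw [← algebraMap_smul S (s : R) a, ← algebraMap_smul S (s : R) b, ← hu, smul_smul, smul_smul, Units.inv_mul,
          one_smul, one_smul] at h1
        exact h1
      · show (s : R) • ((↑u⁻¹ : S) • a) = a
        rw [← algebraMap_smul S (s : R) ((↑u⁻¹ : S) • a), ← hu, smul_smul, Units.mul_inv, one_smul]
    · obtain ⟨t, rfl⟩ := Ideal.Quotient.mk_surjective t
      obtain ⟨⟨r, s⟩, hrs⟩ := IsLocalization.surj Q.primeCompl t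
      refine ⟨⟨Ideal.Quotient.mk J r, s⟩, ?_⟩
      show (s : R) • Ideal.Quotient.mk (J.map (algebraMap R S)) t = Ideal.Quotient.mk (J.map (algebraMap R S)) (algebraMap R S r)
      rw [← hrs, mul_comm, map_mul, ← algebraMap_smul S (s : R)]
      rfl
    · obtain ⟨a, rfl⟩ := Ideal.Quotient.mk_surjective a
      obtain ⟨b, rfl⟩ := Ideal.Quotient.mk_surjective b
      have h1 : algebraMap R S (a - b) ∈ J.map (algebraMap R S) := by
        rw [map_sub]; exact Ideal.Quotient.eq.1 hab
      obtain ⟨s, hs⟩ := (IsLocalization.algebraMap_mem_map_algebraMap_iff Q.primeCompl S J (a - b)).1 h1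
      refine ⟨⟨s, hs.1⟩, ?_⟩
      show Submodule.Quotient.mk ((s : R) • a) = Submodule.Quotient.mk (s • b)
      rw [Submodule.Quotient.eq, ← smul_sub]
      exact hs.2
  exact Module.associatedPrimes.mem_associatedPrimes_of_comap_mem_associatedPrimes_of_isLocalizedModule
    Q.primeCompl f (maximalIdeal S) (by
      convert h
      exact IsLocalization.AtPrime.comap_maximalIdeal S Q)

theorem dim_quot_zero {R : Type u} [CommRing R] (S : Type u) [CommRing S] [Algebra R S] (Q : Ideal R) [Q.IsPrime]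
    [IsLocalization.AtPrime S Q] [IsRegularLocalRing S] (rs : List R) (hrs : RingTheory.Sequence.IsWeaklyRegular R rs)
    (J : Ideal R) (hJ : J = Ideal.ofList rs) (hJQ : J ≤ Q) (hass : Q ∈ associatedPrimes R (R ⧸ J))
    (hloc : ∀ b ∈ Q, algebraMap R S b ∈ maximalIdeal S) :
    ringKrullDim (S ⧸ J.map (algebraMap R S)) = 0 := by
  haveI : Module.Flat R S := IsLocalization.flat S Q.primeCompl
  have hA : maximalIdeal S ∈ associatedPrimes S (S ⧸ J.map (algebraMap R S)) := by
    convert ass_localization (S := S) Q J hass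
  subst hJ
  rw [Ideal.map_ofList] at hA ⊢
  refine eq_zero_dim (Groth.Calg6.isCohenMacaulayModule_of_isRegularLocalRing S) _ (fun a ha => ?_)
    (RingTheory.Sequence.IsWeaklyRegular.of_flat hrs) hA
  obtain ⟨b, hb, rfl⟩ := List.mem_map.1 ha
  exact hloc b (hJQ (Ideal.subset_span hb))

end Algebra

variable {X : Scheme.{u}}

/-- `x` is regular on `Γ(X, V) / I(V)`. -/
theorem regular_quot [IsLocallyNoetherian X] (hX : ∀ p : X, IsRegularLocalRing (X.presheaf.stalk p))
    (I ID : X.IdealSheafData)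
    (hZD : ∀ z : ↥I.subscheme, ringKrullDim (I.subscheme.presheaf.stalk z) = 0 →
      I.subschemeι.base z ∉ Set.range ID.subschemeι.base)
    (V : X.affineOpens) (x : Γ(X, V.1)) (hID : ID.ideal V = Ideal.span {x})
    (rs : List Γ(X, V.1)) (hrs : RingTheory.Sequence.IsWeaklyRegular Γ(X, V.1) rs)
    (hI : I.ideal V = Ideal.ofList rs) (r : Γ(X, V.1)) (hr : x * r ∈ I.ideal V) : r ∈ I.ideal V := by
  obtain ⟨U, hU⟩ := V
  dsimp only at x rs r hID hrs hI hr ⊢
  haveI : IsNoetherianRing Γ(X, U) := IsLocallyNoetherian.component_noetherian ⟨U, hU⟩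
  by_contra hr'
  have h1 : x ∈ ⋃ p ∈ associatedPrimes Γ(X, U) (Γ(X, U) ⧸ I.ideal ⟨U, hU⟩), (p : Set Γ(X, U)) := by
    rw [biUnion_associatedPrimes_eq_zero_divisors]
    refine ⟨Ideal.Quotient.mk _ r, fun h => hr' (Ideal.Quotient.eq_zero_iff_mem.1 h), ?_⟩
    exact Ideal.Quotient.eq_zero_iff_mem.2 hr
  simp only [Set.mem_iUnion, SetLike.mem_coe, exists_prop] at h1
  obtain ⟨Q, hQ, hxQ⟩ := h1
  haveI := hQ.isPrime
  have hJQ : I.ideal ⟨U, hU⟩ ≤ Q := fun a ha =>
    IsAssociatedPrime.annihilator_le hQ (by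
      rw [Submodule.mem_annihilator]
      rintro t -
      obtain ⟨t, rfl⟩ := Ideal.Quotient.mk_surjective t
      exact Ideal.Quotient.eq_zero_iff_mem.2 (Ideal.mul_mem_right t _ ha))
  set y : X := hU.fromSpec ⟨Q, inferInstance⟩ with hy
  have hyU : y ∈ U := hU.range_fromSpec.le (Set.mem_range_self _)
  have hprime : hU.primeIdealOf ⟨y, hyU⟩ = ⟨Q, inferInstance⟩ := by
    apply hU.fromSpec.isOpenEmbedding.injective
    rw [hU.fromSpec_primeIdealOf]
  have hzero : ∀ (K : X.IdealSheafData), K.ideal ⟨U, hU⟩ ≤ Q → y ∈ Set.range K.subschemeι.base := by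
    intro K hK
    have h2 : y ∈ X.zeroLocus (U := U) (K.ideal ⟨U, hU⟩) ∩ (U : Set X) := by
      rw [← hU.fromSpec_image_zeroLocus]
      exact ⟨⟨Q, inferInstance⟩, hK, rfl⟩
    rw [← K.coe_support_inter ⟨U, hU⟩] at h2
    rw [K.range_subschemeι]
    exact h2.1
  obtain ⟨z, hz⟩ := hzero I hJQ
  have hyD : I.subschemeι.base z ∈ Set.range ID.subschemeι.base := by
    rw [hz]; exact hzero ID (by rw [hID, Ideal.span_le, Set.singleton_subset_iff]; exact hxQ)
  refine hZD z ?_ hyD
  have hzU : I.subschemeι.base z ∈ U := by rw [hz]; exact hyU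
  letI := TopCat.Presheaf.algebra_section_stalk X.presheaf (⟨I.subschemeι.base z, hzU⟩ : U)
  haveI hloc : IsLocalization.AtPrime (X.presheaf.stalk (I.subschemeι.base z)) Q := by
    have := hU.isLocalization_stalk ⟨I.subschemeι.base z, hzU⟩
    rwa [show hU.primeIdealOf ⟨I.subschemeι.base z, hzU⟩ = ⟨Q, inferInstance⟩ by
      rw [← hprime]; congr 1; exact Subtype.ext hz] at this
  haveI := hX (I.subschemeι.base z)
  have hdim := dim_quot_zero (X.presheaf.stalk (I.subschemeι.base z)) Q rs hrs (I.ideal ⟨U, hU⟩) hI hJQ hQ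
    fun b hb => (IsLocalization.AtPrime.to_map_mem_maximal_iff (X.presheaf.stalk (I.subschemeι.base z)) Q b).2 hb
  have hker : RingHom.ker (I.subschemeι.stalkMap z).hom =
      (I.ideal ⟨U, hU⟩).map (algebraMap Γ(X, U) (X.presheaf.stalk (I.subschemeι.base z))) := by
    rw [Groth.Ega4b.ker_stalkMap_eq_map I.subschemeι hU z hzU, Scheme.IdealSheafData.ker_subschemeι]
    rfl
  rw [← hdim]
  exact (ringKrullDim_eq_of_ringEquiv ((Ideal.quotEquivOfEq hker.symm).trans
    (RingHom.quotientKerEquivOfSurjective (I.subschemeι.stalkMap_surjective z)))).symm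

theorem range_secForm {n : ℕ} (IY : Fin n → X.IdealSheafData) (V : X.affineOpens) :
    LinearMap.range (KoszSh.secForm (Limits.Sigma.desc fun i => ClSub.idealModι (IY i)) V.1) =
      (⨆ i, IY i).ideal V := by
  rw [Scheme.IdealSheafData.ideal_iSup, iSup_apply]
  have hι : ∀ i k, KoszSh.secForm (Limits.Sigma.desc fun i => ClSub.idealModι (IY i)) V.1
      ((Sigma.ι (fun i => ClSub.idealMod (IY i)) i).app V.1 k) = OmegaSh.idealSect (IY i) V.1 k := fun i k => by
    rw [KoszSh.secForm_apply, ← comp_app_apply, Sigma.ι_desc]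
    rfl

  refine le_antisymm ?_ (iSup_le fun i a ha => ?_)
  · rintro _ ⟨e, rfl⟩
    rw [sum_decomp _ V.1 e, map_sum]
    refine Submodule.sum_mem _ fun i _ => ?_
    rw [hι]
    exact Submodule.mem_iSup_of_mem i (Groth.OmegaSheaf.idealSect_mem (IY i) V _)
  · obtain ⟨k, rfl⟩ := Groth.OmegaSheaf.exists_idealSect (IY i) V ha
    exact ⟨_, hι i k⟩

variable {n : ℕ} (IY : Fin n → X.IdealSheafData) (hY : ∀ i, BlowUp.IsEffCartierIdeal (IY i))
  (C : KoszSh.Cx (∐ fun i => ClSub.idealMod (IY i)) (Limits.Sigma.desc fun i => ClSub.idealModι (IY i)))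

include hY in
theorem regular_homology_local (q : ℕ) (V : X.affineOpens) (x : Γ(X, V.1)) (rs : List Γ(X, V.1))
    (hrs : RingTheory.Sequence.IsWeaklyRegular Γ(X, V.1) rs) (hI : (⨆ i, IY i).ideal V = Ideal.ofList rs)
    (hx : ∀ r, x * r ∈ Ideal.ofList rs → r ∈ Ideal.ofList rs) :
    IsSMulRegular Γ(C.K.homology q, V.1) x := by
  set φ := KoszSh.secForm (Limits.Sigma.desc fun i => ClSub.idealModι (IY i)) V.1
  obtain ⟨hfin, hproj⟩ := finite_projective_sections (isFinLocFree_sum IY hY) V.2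
  have hset : Set.range rs.get = {a | a ∈ rs} := by ext a; simp
  have hspan : Ideal.span (Set.range rs.get) = Ideal.ofList rs := by rw [hset]
  have H : HReg φ x := hreg_main φ rs.get (by rw [List.ofFn_get]; exact hrs)
    (by rw [hspan, ← hI]; exact range_secForm IY V) x (by rw [hspan]; exact hx)
  have hC := isQCoh_term IY hY C
  haveI := hC (q + 1)
  haveI := isQCoh_cycles C.K hC q
  haveI := isQCoh_homology C.K hC q
  refine IsSMulRegular.of_right_eq_zero_of_smul fun h hh => ?_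
  obtain ⟨z, rfl⟩ := Groth.QCohMod.app_surjective_of_epi (C.K.homologyπ q) V.2 h
  rw [← Scheme.Modules.Hom.app_smul] at hh
  obtain ⟨w, hw⟩ := Groth.QCohMod.exists_app_eq_of_exact
    (S := ShortComplex.mk (C.K.toCycles (q + 1) q) (C.K.homologyπ q) (C.K.toCycles_comp_homologyπ _ _))
    (toCycles_exact C.K q) V.2 (x • z) hh
  change (C.K.toCycles (q + 1) q).app V.1 w = x • z at hw
  have hd : ∀ w, ((C.loc q V ((C.K.iCycles q).app V.1 ((C.K.toCycles (q + 1) q).app V.1 w))) : ExteriorAlgebra _ _) =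
      dd φ (C.loc (q + 1) V w : ExteriorAlgebra _ _) := fun w => by
    rw [← comp_app_apply, C.K.toCycles_i]; exact loc_d C q V w
  set t := C.loc q V ((C.K.iCycles q).app V.1 z) with ht
  have hcyc : dd φ (t : ExteriorAlgebra _ _) = 0 := by
    rcases q with _ | q
    · exact dd_deg_zero φ t.2
    · rw [ht, ← loc_d C q V, ← comp_app_apply, C.K.iCycles_d]
      show (((C.loc q V) (0 : Γ(C.K.X q, V.1)) : ↥(⋀[Γ(X, V.1)]^q Γ(∐ fun i => ClSub.idealMod (IY i), V.1))) : ExteriorAlgebra Γ(X, V.1) Γ(∐ fun i => ClSub.idealMod (IY i), V.1)) = 0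
      rw [map_zero]; rfl
  obtain ⟨y, hy, hdy⟩ := H q t (C.loc (q + 1) V w) t.2 (C.loc (q + 1) V w).2 hcyc (by
    rw [← hd, hw, Scheme.Modules.Hom.app_smul, map_smul]; rfl)
  have hz : z = (C.K.toCycles (q + 1) q).app V.1 ((C.loc (q + 1) V).symm ⟨y, hy⟩) := by
    refine Groth.QCohMod.app_injective_of_mono (C.K.iCycles q) V.1 ((C.loc q V).injective (Subtype.ext ?_))
    rw [hd, LinearEquiv.apply_symm_apply]
    exact hdy.symm
  rw [hz, ← comp_app_apply, C.K.toCycles_comp_homologyπ]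
  rfl

include hY in
theorem regular_homology [IsLocallyNoetherian X] (hX : ∀ p : X, IsRegularLocalRing (X.presheaf.stalk p))
    (ID : X.IdealSheafData) (hZ : RegImm.IsRegularImmersion RegImm.Kind.regular (⨆ i, IY i).subschemeι)
    (hZD : ∀ z : ↥(⨆ i, IY i).subscheme, ringKrullDim ((⨆ i, IY i).subscheme.presheaf.stalk z) = 0 →
      (⨆ i, IY i).subschemeι.base z ∉ Set.range ID.subschemeι.base)
    (q : ℕ) (U : X.affineOpens) (x : Γ(X, U.1)) (hID : ID.ideal U = Ideal.span {x}) :
    IsSMulRegular Γ(C.K.homology q, U.1) x := by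
  set I := ⨆ i, IY i with hIdef
  have good : ∀ p ∈ U.1, ∃ (V : X.affineOpens) (_ : V.1 ≤ U.1), p ∈ V.1 ∧ ∃ rs : List Γ(X, V.1),
      RingTheory.Sequence.IsWeaklyRegular Γ(X, V.1) rs ∧ I.ideal V = Ideal.ofList rs := by
    intro p hp
    by_cases hpZ : p ∈ Set.range I.subschemeι.base
    · obtain ⟨z, rfl⟩ := hpZ
      obtain ⟨W, hzW, -, rs, hrs, hker⟩ := hZ.2 z
      change RingTheory.Sequence.IsRegular Γ(X, W.1) rs at hrs
      have hWI : I.ideal W = Ideal.ofList rs := by rw [← hker, Scheme.IdealSheafData.ker_subschemeι_app]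
      obtain ⟨a, ha, hza⟩ := W.2.exists_basicOpen_le (V := U.1) ⟨I.subschemeι.base z, hp⟩ hzW
      refine ⟨⟨X.basicOpen a, W.2.basicOpen a⟩, ha, hza, ?_⟩
      let res' := (X.presheaf.map (homOfLE (X.basicOpen_le a)).op).hom
      letI : Algebra Γ(X, W.1) Γ(X, X.basicOpen a) := res'.toAlgebra
      haveI : IsLocalization.Away a Γ(X, X.basicOpen a) := W.2.isLocalization_basicOpen a
      haveI : Module.Flat Γ(X, W.1) Γ(X, X.basicOpen a) := IsLocalization.flat _ (Submonoid.powers a)
      refine ⟨rs.map (algebraMap Γ(X, W.1) Γ(X, X.basicOpen a)), RingTheory.Sequence.IsWeaklyRegular.of_flat hrs.toIsWeaklyRegular, ?_⟩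
      rw [← Ideal.map_ofList, ← hWI]
      exact (I.map_ideal_basicOpen W a).symm
    · rw [I.range_subschemeι] at hpZ
      obtain ⟨_, ⟨V, hV, rfl⟩, hpV, hVO⟩ := X.isBasis_affineOpens.exists_subset_of_mem_open
        (show p ∈ (U.1 : Set X) ∩ (I.support : Set X)ᶜ from ⟨hp, hpZ⟩)
        (U.1.2.inter I.support.isClosed.isOpen_compl)
      refine ⟨⟨V, hV⟩, fun t ht => (hVO ht).1, hpV, [1], ?_, ?_⟩
      · rw [RingTheory.Sequence.isWeaklyRegular_cons_iff]
        exact ⟨IsSMulRegular.one _, RingTheory.Sequence.IsWeaklyRegular.nil _ _⟩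
      · rw [show Ideal.ofList ([1] : List Γ(X, V)) = ⊤ by simp [Ideal.ofList]]
        by_contra hne
        obtain ⟨m, hm, hle⟩ := Ideal.exists_le_maximal _ hne
        have h2 : hV.fromSpec ⟨m, hm.isPrime⟩ ∈ X.zeroLocus (U := V) (I.ideal ⟨V, hV⟩) ∩ (V : Set X) := by
          rw [← hV.fromSpec_image_zeroLocus]
          exact ⟨⟨m, hm.isPrime⟩, hle, rfl⟩
        rw [← I.coe_support_inter ⟨V, hV⟩] at h2
        exact (hVO h2.2).2 h2.1
  refine IsSMulRegular.of_right_eq_zero_of_smul fun h hh => ?_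
  choose V hVU hpV rs hrs hrsI using fun p : U.1 => good p.1 p.2
  refine res_ext (fun p => (V p).1) hVU (fun z hz => Opens.mem_iSup.2 ⟨⟨z, hz⟩, hpV _⟩) fun p => ?_
  have hID' : ID.ideal (V p) = Ideal.span {resX X (hVU p) x} := by
    rw [← ID.map_ideal (U := V p) (V := U) (hVU p), hID, Ideal.map_span, Set.image_singleton]
    rfl
  rw [res_zero]
  refine IsSMulRegular.right_eq_zero_of_smul
    (regular_homology_local IY hY C q (V p) (resX X (hVU p) x) (rs p) (hrs p) (hrsI p) fun r hr => ?_) ?_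
  · rw [← hrsI p] at hr ⊢
    exact regular_quot hX I ID hZD (V p) _ hID' (rs p) (hrs p) (hrsI p) r hr
  · rw [← res_smul, hh, res_zero]

end Groth.KoszShLib
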